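import Cfsg.Agent.Lib.CharBlocks.RelGraph
import Cfsg.Agent.Lib.Char.Vanishing
import Cfsg.Agent.Lib.Char.Integral
import Cfsg.Agent.Lib.Char.Linear
import Cfsg.Agent.Lib.Char.ThreeDegreesBasic

/-!
# Characters: twists, central elements, induced linear characters

* `vanish_of_invariant`: an invariant family closed under linear twists vanishes at moved elements;
* `card_centralizer_of_vanish`: the centralizer of such an element has order `|L : L'|`;
* `central_mul`: elements central modulo the kernel act by scalars;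
* `exists_twist_fixed`: a character fixed by a twist-free automorphism among those over a linear one;
* `exists_deg_eq_index`: a linear character extending to its inertia group gives the degree `|L : T|`.
-/

set_option autoImplicit false

namespace CfsgLib.NoDiv

open CfsgLib.Char CfsgLib.CharNormal CfsgLib.ThreeDeg

attribute [-instance] MonoidHom.instPow MonoidHom.mul MonoidHom.instInv instOneMonoidHom

universe u

variable {G : Type u} [Group G]

theorem sum_hom_eq_zero [Finite G] [Fintype (G →* ℂˣ)] {x : G} (hx : x ∉ commutator G) :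
    ∑ l : G →* ℂˣ, (l x : ℂ) = 0 := by
  have : Finite (Abelianization G) := inferInstanceAs (Finite (G ⧸ commutator G))
  have : NeZero (Monoid.exponent (Abelianization G) : ℂ) :=
    ⟨by exact_mod_cast Monoid.exponent_ne_zero_of_finite⟩
  have hx1 : Abelianization.of x ≠ 1 := fun h => hx ((QuotientGroup.eq_one_iff x).1 h)
  obtain ⟨φ, hφ⟩ := CommGroup.exists_apply_ne_one_of_hasEnoughRootsOfUnity (Abelianization G) ℂ hx1
  set l₀ : G →* ℂˣ := φ.comp Abelianization.of
  have h : (l₀ x : ℂ) * ∑ l : G →* ℂˣ, (l x : ℂ) = ∑ l : G →* ℂˣ, (l x : ℂ) := by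
    rw [Finset.mul_sum]
    exact Fintype.sum_equiv (Equiv.mulLeft l₀) _ _ fun l => (Units.val_mul _ _).symm
  have hne : (l₀ x : ℂ) ≠ 1 := fun h => hφ (Units.ext h)
  have h2 : ((l₀ x : ℂ) - 1) * ∑ l : G →* ℂˣ, (l x : ℂ) = 0 := by rw [sub_mul, one_mul, h, sub_self]
  exact (mul_eq_zero.1 h2).resolve_left (sub_ne_zero.2 hne)

theorem finite_hom [Finite G] : Finite (G →* ℂˣ) :=
  Finite.of_injective
    (fun (f : G →* ℂˣ) (n : G) => (⟨f n, by
      rw [mem_rootsOfUnity, ← map_pow, pow_card_eq_one', map_one]⟩ : rootsOfUnity (Nat.card G) ℂ))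
    (fun f f' h => MonoidHom.ext fun n => congrArg Subtype.val (congrFun h n))

/-- Twisting a non-linear irreducible character by a linear one. -/
theorem twist_spec [Fintype G] {ψ : G → ℂ} (hψ : Cfsg.IsIrrCharacter G ψ) (l : G →* ℂˣ) :
    Cfsg.IsIrrCharacter G (ψ * linFun l) ∧ (ψ * linFun l) 1 = ψ 1 :=
  ⟨isIrr_mul_linear hψ (isCharacter_linFun l).1 (isCharacter_linFun l).2,
    by simp [linFun_apply]⟩

/-- An automorphism fixing all non-linear characters: they vanish at elements moved modulo `G'`. -/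
theorem vanish_of_invariant [Fintype G] (σ : G →* G)
    (hinv : ∀ ψ : G → ℂ, Cfsg.IsIrrCharacter G ψ → Cfsg.charDegree ψ ≠ 1 → ∀ y, ψ (σ y) = ψ y)
    {ψ : G → ℂ} (hψ : Cfsg.IsIrrCharacter G ψ) (hd : Cfsg.charDegree ψ ≠ 1) {x : G}
    (hx : σ x * x⁻¹ ∉ commutator G) : ψ x = 0 := by
  have : Finite (Abelianization G) := inferInstanceAs (Finite (G ⧸ commutator G))
  have : NeZero (Monoid.exponent (Abelianization G) : ℂ) :=
    ⟨by exact_mod_cast Monoid.exponent_ne_zero_of_finite⟩
  have hx1 : Abelianization.of (σ x * x⁻¹) ≠ 1 := fun h => hx ((QuotientGroup.eq_one_iff _).1 h)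
  obtain ⟨φ, hφ⟩ := CommGroup.exists_apply_ne_one_of_hasEnoughRootsOfUnity (Abelianization G) ℂ hx1
  set l : G →* ℂˣ := φ.comp Abelianization.of
  have hne : (l (σ x) : ℂ) ≠ l x := fun h => hφ (by
    show l (σ x * x⁻¹) = 1
    rw [map_mul, map_inv, Units.ext h, mul_inv_cancel])
  obtain ⟨h1, h2⟩ := twist_spec hψ l
  have e := hinv _ h1 (by rw [deg_of_eq (χ := ψ * linFun l) (ψ := ψ) h2]; exact hd) x
  simp only [Pi.mul_apply, linFun_apply, hinv ψ hψ hd x] at e
  by_contra h0
  exact hne (mul_left_cancel₀ h0 e)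

/-- Column orthogonality at a vanishing element. -/
theorem card_centralizer_of_vanish [Fintype G] {x : G}
    (h : ∀ ψ : G → ℂ, Cfsg.IsIrrCharacter G ψ → Cfsg.charDegree ψ ≠ 1 → ψ x = 0) :
    Nat.card (Subgroup.centralizer ({x} : Set G)) = (commutator G).index := by
  classical
  rw [← card_linear (G := G)]
  have hs := sum_normSq_eq_card_centralizer x
  have hterm : ∀ χ : Cfsg.IrrCharacter G,
      Complex.normSq ((χ : G → ℂ) x) = if (χ : G → ℂ) 1 = 1 then 1 else 0 := by
    intro χ
    split_ifs with h1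
    · obtain ⟨f, hf⟩ := exists_linHom (isCharacter_of_isIrr χ.2) h1
      rw [← hf, linFun_apply, Complex.normSq_eq_norm_sq, norm_eq_one_of_pow_eq_one'
        (m := Nat.card G) Nat.card_pos.ne' (by
          rw [← Units.val_pow_eq_pow_val, ← map_pow, pow_card_eq_one', map_one, Units.val_one]), one_pow]
    · rw [h _ χ.2 (fun hd => h1 (by rw [deg_cast χ.2, hd, Nat.cast_one])), map_zero]
  rw [Finset.sum_congr rfl fun χ _ => hterm χ, Finset.sum_boole] at hs
  rw [Nat.card_eq_fintype_card (α := {χ : Cfsg.IrrCharacter G // (χ : G → ℂ) 1 = 1}),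
    Fintype.card_subtype]
  exact_mod_cast hs.symm

/-- An element central modulo the kernel acts by a scalar. -/
theorem central_mul [Finite G] {θ : G → ℂ} (hθ : Cfsg.IsIrrCharacter G θ) {c : G}
    (h : ∀ w, θ (c * w * c⁻¹ * w⁻¹) = θ 1) : θ c ≠ 0 ∧ ∀ x, θ (c * x) = θ c / θ 1 * θ x := by
  obtain ⟨n, ρ, hirr, rfl⟩ := hθ
  have hc : ∀ w, ρ c ∘ₗ ρ w = ρ w ∘ₗ ρ c := by
    intro w
    have h1 : ρ (c * w * c⁻¹ * w⁻¹) = LinearMap.id :=
      (character_eq_degree_iff ρ _).1 (by simpa using h w)
    have h2 := congrArg (fun T => T * ρ (w * c)) h1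
    simp only [← map_mul] at h2
    rw [show c * w * c⁻¹ * w⁻¹ * (w * c) = c * w by group, ← Module.End.one_eq_id, one_mul, map_mul,
      map_mul, Module.End.mul_eq_comp, Module.End.mul_eq_comp] at h2
    exact h2
  obtain ⟨ω, hω⟩ := exists_eq_smul_id ρ (ρ c) hc
  have hn : 0 < n := by simpa using finrank_pos_of_irreducible ρ
  have hval : ∀ x, ρ.character (c * x) = ω * ρ.character x := fun x => by
    simp [Representation.character, hω, Module.End.mul_eq_comp, LinearMap.smul_comp]
  have hc1 : ρ.character c = ω * n := by simpa using hval 1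
  have hω0 : ω ≠ 0 := by
    intro h0
    have h1 := hval c⁻¹
    rw [h0, zero_mul, mul_inv_cancel] at h1
    simp at h1
    omega
  have hn0 : (n : ℂ) ≠ 0 := by exact_mod_cast hn.ne'
  refine ⟨by rw [hc1]; exact mul_ne_zero hω0 hn0, fun x => ?_⟩
  rw [hval, hc1, show ρ.character 1 = (n : ℂ) by simp, mul_div_assoc, div_self hn0, mul_one]

/-- Two irreducible characters with the same scalar restriction to `G'` differ by a linear one. -/
theorem exists_twist_eq [Fintype G] {θ η : G → ℂ} (hθ : Cfsg.IsIrrCharacter G θ)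
    (hη : Cfsg.IsIrrCharacter G η) (h : ∀ x ∈ commutator G, η x * θ 1 = θ x * η 1) :
    ∃ l : G →* ℂˣ, η = θ * linFun l := by
  classical
  have := finite_hom (G := G)
  have := Fintype.ofFinite (G →* ℂˣ)
  by_contra hne
  push Not at hne
  have hz : ∑ l : G →* ℂˣ, (Nat.card G : ℂ) * Cfsg.classInner (θ * linFun l) η = 0 :=
    Finset.sum_eq_zero fun l _ => by
      rw [classInner_irr_ne (twist_spec hθ l).1 hη (fun e => hne l e.symm), mul_zero]
  simp only [card_mul_classInner, Pi.mul_apply, linFun_apply] at hz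
  rw [Finset.sum_comm] at hz
  have hx : ∀ x : G, (∑ l : G →* ℂˣ, θ x * (l x : ℂ) * starRingEnd ℂ (η x)) =
      if x ∈ commutator G then
        (Fintype.card (G →* ℂˣ) : ℂ) * (θ 1 / η 1) * (Complex.normSq (η x) : ℂ) else 0 := by
    intro x
    rw [← Finset.sum_mul, ← Finset.mul_sum]
    split_ifs with hx
    · have h1 : ∀ l : G →* ℂˣ, (l x : ℂ) = 1 := fun l => by
        rw [Abelianization.commutator_subset_ker l hx]; rfl
      rw [Finset.sum_congr rfl fun l _ => h1 l, Finset.sum_const, Finset.card_univ, nsmul_one]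
      have h2 : θ x = θ 1 / η 1 * η x := by
        rw [div_mul_eq_mul_div, eq_div_iff (irr_one_ne_zero hη), mul_comm (θ 1)]
        exact (h x hx).symm
      rw [h2, ← Complex.mul_conj]
      ring
    · rw [sum_hom_eq_zero hx, mul_zero, zero_mul]
  rw [Finset.sum_congr rfl fun x _ => hx x, ← Finset.sum_filter, ← Finset.mul_sum] at hz
  have hpos : (0 : ℝ) < ∑ x ∈ Finset.univ.filter (fun x => x ∈ commutator G), Complex.normSq (η x) :=
    Finset.sum_pos' (fun x _ => Complex.normSq_nonneg _)
      ⟨1, by simp, Complex.normSq_pos.2 (irr_one_ne_zero hη)⟩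
  rcases mul_eq_zero.1 hz with h0 | h0
  · rcases mul_eq_zero.1 h0 with h1 | h1
    · exact Fintype.card_ne_zero (α := G →* ℂˣ) (by exact_mod_cast h1)
    · exact div_ne_zero (irr_one_ne_zero hθ) (irr_one_ne_zero hη) h1
  · rw [← Complex.ofReal_sum] at h0
    exact hpos.ne' (by exact_mod_cast h0)

/-- A linear character extending to its inertia group lies under a character of degree `|G : T|`. -/
theorem exists_deg_eq_index [Fintype G] (N : Subgroup G) [N.Normal] [Fintype N] (θ : N →* ℂˣ)
    (T : Subgroup G) [Fintype T] (hT : ∀ g : G, g ∈ T ↔ conjFun N g (linFun θ) = linFun θ) (hNT : N ≤ T)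
    (f : T →* ℂˣ) (hf : ∀ n : N, f ⟨n, hNT n.2⟩ = θ n) :
    ∃ χ : G → ℂ, Cfsg.IsIrrCharacter G χ ∧ Cfsg.charDegree χ = T.index ∧
      Cfsg.classInner (fun n : N => χ n) (linFun θ) ≠ 0 := by
  have hη := isCharacter_linFun f
  have hind := isCharacter_indFun T hη.1
  obtain ⟨χ, hχ, h0⟩ := exists_constituent hind fun e => by
    have e1 := congrFun e 1
    rw [indFun_one, hη.2, mul_one, Pi.zero_apply, Nat.cast_eq_zero] at e1
    exact Subgroup.index_ne_zero_of_finite e1
  have hres : Cfsg.classInner (fun t : T => χ t) (linFun f) ≠ 0 := by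
    rw [frobenius_reciprocity T _ (isClassFunction_of_isIrr hχ), ← classInner_conj_symm] at h0
    exact fun e => h0 (by rw [e, map_zero])
  have hfN : (fun n : N => linFun f ⟨n, hNT n.2⟩) = linFun θ := funext fun n => by
    rw [linFun_apply, linFun_apply, hf]
  have h1 : Cfsg.classInner (fun n : N => χ n) (linFun θ) ≠ 0 := by
    obtain ⟨m, hm, hmi⟩ := char_decomp (isCharacter_res T (isCharacter_of_isIrr hχ))
    have h2 : (fun n : N => χ n) =
        ∑ φ : Cfsg.IrrCharacter T, (m φ : ℂ) • fun n : N => (φ : T → ℂ) ⟨n, hNT n.2⟩ :=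
      funext fun n => by simpa [Finset.sum_apply] using congrFun hm ⟨n, hNT n.2⟩
    choose k hk using fun φ : Cfsg.IrrCharacter T => classInner_char_nat
      (isCharacter_comp (isCharacter_of_isIrr φ.2) (Subgroup.inclusion hNT))
      (isCharacter_linFun θ).1
    have h3 : Cfsg.classInner (fun n : N => χ n) (linFun θ) = ∑ φ, (m φ : ℂ) * k φ := by
      rw [h2, classInner_sum_left]
      exact Finset.sum_congr rfl fun φ _ => by rw [classInner_smul_left, ← hk]; rfl
    rw [h3]
    set φ₀ : Cfsg.IrrCharacter T := ⟨linFun f, isIrrCharacter_units_hom f⟩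
    have hm0 : m φ₀ ≠ 0 := fun e => hres (by rw [hmi φ₀, e, Nat.cast_zero])
    have hk0 : k φ₀ ≠ 0 := fun e => by
      have h4 := hk φ₀
      rw [e, show ((φ₀ : T → ℂ) ∘ Subgroup.inclusion hNT) = linFun θ from hfN,
        classInner_irr_self (CfsgLib.CharBlocks.RelGraph.linFun_isIrr θ), Nat.cast_zero] at h4
      exact one_ne_zero h4
    exact_mod_cast (Nat.lt_of_lt_of_le (Nat.pos_of_ne_zero (mul_ne_zero hm0 hk0))
      (Finset.single_le_sum (f := fun φ => m φ * k φ) (fun _ _ => Nat.zero_le _) (Finset.mem_univ φ₀))).ne'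
  obtain ⟨φ, hφ, hφi, -⟩ := clifford_correspondence N (isIrrCharacter_units_hom θ) T hT hNT hχ h1
  obtain ⟨d, hd, hd1⟩ := exists_degree_pos hφ
  obtain ⟨e, he, he1⟩ := exists_degree_pos hχ
  have hle := constituent_degree_le hind hχ h0
  rw [indFun_one, hη.2, mul_one, he1, Complex.natCast_re, Complex.natCast_re, Nat.cast_le] at hle
  have heq : e = T.index * d := by
    have := congrFun hφi 1
    rw [indFun_one, hd1, he1] at this
    exact_mod_cast this.symm
  refine ⟨χ, hχ, ?_, h1⟩
  rw [deg_of_cast he1]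
  exact le_antisymm hle (heq ▸ Nat.le_mul_of_pos_right _ hd)

end CfsgLib.NoDiv
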