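import Cfsg.Agent.Lib.CharBlocks.NoDiv.Orbits
import Cfsg.Agent.Lib.CharBlocks.NoDiv.CharTools
import Cfsg.Agent.S0033

/-!
# No divisibility among degrees: the case of a derived subgroup of order prime to `q`

All non-linear degrees are equal when they form an antichain, are divisible by `q`, and are fixed by
an automorphism of period `f` modulo inner ones which moves a `q`-element modulo `L'`.
-/

set_option autoImplicit false

namespace CfsgLib.NoDiv

open CfsgLib.Char CfsgLib.ThreeDeg
open CfsgLib.CharNormal hiding stab mem_stab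
open CfsgLib.CharBlocks.RelGraph (cjHom stab mem_stab cjHom_comp cjHom_id cjHom_apply conjFun_linFun
  lin linFun_isIrr)
open scoped commutatorElement

attribute [-instance] MonoidHom.instPow MonoidHom.mul MonoidHom.instInv instOneMonoidHom

universe u

variable {L : Type u} [Group L] [Fintype L]

/-- The hypotheses. -/
structure Setting (L : Type u) [Group L] [Fintype L] (σ : MulAut L) (f q : ℕ) : Prop where
  prime : q.Prime
  fcop : ¬ q ∣ f
  derived : ¬ q ∣ Nat.card (commutator L)
  anti : ∀ ψ φ : L → ℂ, Cfsg.IsIrrCharacter L ψ → Cfsg.IsIrrCharacter L φ →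
    Cfsg.charDegree ψ ≠ 1 → Cfsg.charDegree φ ≠ 1 → Cfsg.charDegree ψ ∣ Cfsg.charDegree φ →
    Cfsg.charDegree ψ = Cfsg.charDegree φ
  inv : ∀ ψ : L → ℂ, Cfsg.IsIrrCharacter L ψ → Cfsg.charDegree ψ ≠ 1 → ∀ y, ψ (σ y) = ψ y
  cop : ∀ ψ : L → ℂ, Cfsg.IsIrrCharacter L ψ → Cfsg.charDegree ψ ≠ 1 →
    f.Coprime (Cfsg.charDegree ψ)
  period : ∃ n₀ : L, ∀ x, σ^[f] x = n₀ * x * n₀⁻¹
  moved : ∃ x : L, ∃ k : ℕ, x ^ q ^ k = 1 ∧ σ x * x⁻¹ ∉ commutator L

attribute [local instance] finite_hom

variable {σ : MulAut L} {f q : ℕ}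

local notation "mkA" => (Abelianization.of : L →* Abelianization L)

omit [Fintype L] in
theorem mk_eq_iff {a b : L} : mkA a = mkA b ↔ a * b⁻¹ ∈ commutator L := by
  rw [← mul_inv_eq_one, ← map_inv, ← map_mul]
  exact QuotientGroup.eq_one_iff _

theorem Setting.iterate_mk (h : Setting L σ f q) (x : L) : mkA (σ^[f] x) = mkA x := by
  obtain ⟨n₀, hn₀⟩ := h.period
  rw [hn₀, map_mul, map_mul, map_inv, mul_comm (mkA n₀), mul_inv_cancel_right]

omit [Fintype L] in
theorem iterate_of_fixed_diff {x s : L} (hs : mkA (σ s) = mkA s) (hx : mkA (σ x) = mkA x * mkA s) (n : ℕ) :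
    mkA (σ^[n] x) = mkA x * mkA s ^ n := by
  have hfix : ∀ n, mkA (σ^[n] s) = mkA s := by
    have hcongr : ∀ a b : L, mkA a = mkA b → mkA (σ a) = mkA (σ b) := fun a b hab => by
      have := congrArg (Abelianization.map σ.toMonoidHom) hab
      simpa using this
    intro n
    induction n with
    | zero => rfl
    | succ n ih => rw [Function.iterate_succ_apply', hcongr _ _ ih, hs]
  induction n with
  | zero => simp
  | succ n ih =>
    have := congrArg (Abelianization.map σ.toMonoidHom) ih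
    simp only [map_mul, map_pow, Abelianization.map_of, MulEquiv.coe_toMonoidHom] at this
    rw [Function.iterate_succ_apply', this, hx, hs, mul_assoc, pow_succ']

/-- The order of a difference fixed modulo `L'` divides `f`. -/
theorem Setting.diff_pow (h : Setting L σ f q) {x s : L} (hs : mkA (σ s) = mkA s)
    (hx : mkA (σ x) = mkA x * mkA s) : mkA s ^ f = 1 := by
  have h1 := iterate_of_fixed_diff hs hx f
  rw [h.iterate_mk] at h1
  exact mul_eq_left.1 h1.symm

theorem Setting.vanish (h : Setting L σ f q) {x : L} (hx : σ x * x⁻¹ ∉ commutator L) :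
    Nat.card (Subgroup.centralizer ({x} : Set L)) = (commutator L).index :=
  card_centralizer_of_vanish fun _ hψ hd => vanish_of_invariant σ.toMonoidHom h.inv hψ hd hx

/-- An element of order `q` moved modulo `L'`. -/
theorem Setting.exists_u (h : Setting L σ f q) :
    ∃ u : L, orderOf u = q ∧ σ u * u⁻¹ ∉ commutator L := by
  classical
  obtain ⟨x₀, hx₀⟩ := h.moved
  have hex : ∃ k, ∃ x : L, x ^ q ^ k = 1 ∧ σ x * x⁻¹ ∉ commutator L :=
    ⟨hx₀.choose, x₀, hx₀.choose_spec⟩
  obtain ⟨x, hx, hxm⟩ := Nat.find_spec hex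
  have hk : Nat.find hex ≠ 0 := fun e => hxm (by
    rw [e, pow_zero, pow_one] at hx
    simp [hx])
  obtain ⟨k, hk⟩ := Nat.exists_eq_succ_of_ne_zero hk
  have hfix : mkA (σ (x ^ q)) = mkA (x ^ q) := by
    by_contra hne
    have := Nat.find_min' hex (m := k) ⟨x ^ q, by rw [hk] at hx; rw [← pow_mul, ← pow_succ']; exact hx,
      fun hm => hne (mk_eq_iff.2 hm)⟩
    omega
  set w := σ x * x⁻¹ with hw
  have hwq : mkA w ^ q = 1 := by
    rw [← map_pow] at *
    have : mkA (w ^ q) = mkA (σ (x ^ q)) * (mkA (x ^ q))⁻¹ := by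
      simp only [hw, map_pow, map_mul, map_inv, mul_pow, inv_pow]
    rw [this, hfix, mul_inv_cancel]
  -- a lift of order `q`
  obtain ⟨a, o, ho, hord⟩ : ∃ a o : ℕ, ¬ q ∣ o ∧ orderOf w = q ^ a * o :=
    ⟨_, _, Nat.not_dvd_ordCompl h.prime (orderOf_pos w).ne', (Nat.ordProj_mul_ordCompl_eq_self _ q).symm⟩
  obtain ⟨t, ht1, ht2⟩ := Nat.chineseRemainder
    ((Nat.Prime.coprime_iff_not_dvd h.prime).2 ho) 1 0
  set u := w ^ t with hu
  have hmk : mkA u = mkA w := by
    rw [hu, map_pow]
    conv_rhs => rw [← pow_one (mkA w)]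
    exact pow_eq_pow_iff_modEq.2 (ht1.of_dvd (orderOf_dvd_of_pow_eq_one hwq))
  have huq' : u ^ q ^ a = 1 := by
    rw [hu, ← pow_mul, ← orderOf_dvd_iff_pow_eq_one, hord, mul_comm]
    exact Nat.mul_dvd_mul (Nat.modEq_zero_iff_dvd.1 ht2) dvd_rfl
  have huq : u ^ q = 1 := by
    have hD : u ^ q ∈ commutator L := (QuotientGroup.eq_one_iff _).1 (by
      show mkA (u ^ q) = 1
      rw [map_pow, hmk, hwq])
    have h1 : orderOf (u ^ q) ∣ q ^ a := orderOf_dvd_of_pow_eq_one (by rw [← pow_mul, mul_comm, pow_mul, huq', one_pow])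
    have h2 : orderOf (u ^ q) ∣ Nat.card (commutator L) := by
      rw [← Subgroup.orderOf_mk (u ^ q) hD]; exact orderOf_dvd_natCard _
    exact orderOf_eq_one_iff.1 (Nat.eq_one_of_dvd_coprimes
      (((Nat.Prime.coprime_iff_not_dvd h.prime).2 h.derived).pow_left a) h1 h2)
  have := Fact.mk h.prime
  have hwne : mkA w ≠ 1 := fun e => hxm ((QuotientGroup.eq_one_iff _).1 e)
  have hmoved : σ u * u⁻¹ ∉ commutator L := by
    intro hm
    have hx' : mkA (σ x) = mkA x * mkA u := by
      rw [hmk, hw, map_mul, map_inv, mul_comm (mkA (σ x)), mul_inv_cancel_left]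
    have h1 := h.diff_pow (mk_eq_iff.2 hm) hx'
    rw [hmk] at h1
    exact hwne (orderOf_eq_one_iff.1 (Nat.eq_one_of_dvd_coprimes ((Nat.Prime.coprime_iff_not_dvd h.prime).2 h.fcop)
      (orderOf_dvd_of_pow_eq_one hwq) (orderOf_dvd_of_pow_eq_one h1)))
  exact ⟨u, orderOf_eq_prime huq fun e => hmoved (by simp [e]), hmoved⟩

/-- The centralizer of `u` is a complement to `L'`, acting freely where moved. -/
theorem Setting.complement (h : Setting L σ f q) {u : L} (hu : orderOf u = q)
    (hum : σ u * u⁻¹ ∉ commutator L) :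
    (∀ y : L, ∃ a ∈ Subgroup.centralizer ({u} : Set L), y⁻¹ * a ∈ commutator L) ∧
    (∀ d ∈ commutator L, u * d = d * u → d = 1) ∧
    ∀ a ∈ Subgroup.centralizer ({u} : Set L), σ a * a⁻¹ ∉ commutator L →
      ∀ d ∈ commutator L, a * d = d * a → d = 1 := by
  classical
  set A := Subgroup.centralizer ({u} : Set L) with hAdef
  set D := commutator L with hD
  have hq := Fact.mk h.prime
  have htop : ∀ y : L, ∃ a ∈ A, y⁻¹ * a ∈ D := by
    intro y
    let X := {z : L // y⁻¹ * z ∈ D}
    have hcard : Nat.card X = Nat.card D := Nat.card_congr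
      { toFun := fun z => ⟨y⁻¹ * z.1, z.2⟩
        invFun := fun d => ⟨y * d.1, by simp⟩
        left_inv := fun z => Subtype.ext (mul_inv_cancel_left y z.1)
        right_inv := fun d => Subtype.ext (inv_mul_cancel_left y d.1) }
    let _ : MulAction (Subgroup.zpowers u) X :=
      { smul := fun g z => ⟨g * z.1 * (g : L)⁻¹, by
          have h1 : mkA ((g : L) * z.1 * (g : L)⁻¹) = mkA z.1 := by
            rw [map_mul, map_mul, map_inv, mul_comm (mkA (g : L)), mul_inv_cancel_right]
          have h2 : mkA (y⁻¹ * ((g : L) * z.1 * (g : L)⁻¹)) = 1 := by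
            rw [map_mul, h1, ← map_mul]
            exact (QuotientGroup.eq_one_iff _).2 z.2
          exact (QuotientGroup.eq_one_iff _).1 h2⟩
        one_smul := fun z => Subtype.ext (by show (1 : L) * z.1 * (1 : L)⁻¹ = z.1; simp)
        mul_smul := fun g g' z => Subtype.ext (by
          show (g : L) * g' * z.1 * ((g : L) * g')⁻¹ = (g : L) * ((g' : L) * z.1 * (g' : L)⁻¹) * (g : L)⁻¹
          group) }
    have hp : IsPGroup q (Subgroup.zpowers u) :=
      IsPGroup.of_card (n := 1) (by rw [Nat.card_zpowers, hu, pow_one])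
    obtain ⟨z, hz⟩ := hp.nonempty_fixed_point_of_prime_not_dvd_card X (hcard ▸ h.derived)
    refine ⟨z.1, Subgroup.mem_centralizer_singleton_iff.2 ?_, z.2⟩
    have h1 : u * z.1 * u⁻¹ = z.1 := congrArg Subtype.val (hz ⟨u, Subgroup.mem_zpowers u⟩)
    exact (mul_inv_eq_iff_eq_mul.1 h1).symm
  have hcardA : Nat.card A = D.index := h.vanish hum
  have hbij : Function.Bijective (fun a : A => ((a : L) : L ⧸ D)) := by
    refine (Nat.bijective_iff_surjective_and_card _).2 ⟨fun z => ?_, by rw [hcardA, Subgroup.index_eq_card]⟩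
    obtain ⟨y, rfl⟩ := QuotientGroup.mk_surjective z
    obtain ⟨a, ha, hya⟩ := htop y
    exact ⟨⟨a, ha⟩, (QuotientGroup.eq.2 hya).symm⟩
  have hinf : ∀ a ∈ A, a ∈ D → a = 1 := fun a ha haD =>
    congrArg Subtype.val (hbij.1 (a₁ := ⟨a, ha⟩) (a₂ := 1) (by
      show ((a : L) : L ⧸ D) = ((1 : L) : L ⧸ D)
      rw [(QuotientGroup.eq_one_iff a).2 haD]; rfl))
  have hcomm : ∀ a ∈ A, ∀ b ∈ A, a * b = b * a := fun a ha b hb =>
    commutatorElement_eq_one_iff_mul_comm.1 (hinf _ (by
      rw [commutatorElement_def]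
      exact mul_mem (mul_mem (mul_mem ha hb) (inv_mem ha)) (inv_mem hb))
      (Subgroup.commutator_mem_commutator (Subgroup.mem_top a) (Subgroup.mem_top b)))
  refine ⟨htop, fun d hd hc => hinf d (Subgroup.mem_centralizer_singleton_iff.2 hc.symm) hd,
    fun a ha ham d hd hc => hinf d ?_ hd⟩
  have hle : A ≤ Subgroup.centralizer ({a} : Set L) := fun b hb =>
    Subgroup.mem_centralizer_singleton_iff.2 (hcomm b hb a ha)
  rw [Subgroup.eq_of_le_of_card_ge hle (by rw [h.vanish ham, hcardA])]
  exact Subgroup.mem_centralizer_singleton_iff.2 hc.symm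

omit [Fintype L] in
/-- A linear character fixed by an element acting freely is trivial. -/
theorem eq_one_of_fixed {K : Subgroup L} [K.Normal] [Finite K] {a : L}
    (hfree : ∀ d ∈ K, a * d = d * a → d = 1) {l : K →* ℂˣ} (hl : cjHom a l = l) : l = 1 := by
  have hinj : Function.Injective fun d : K => MulAut.conjNormal a d * d⁻¹ := by
    intro d d' he
    have e : (a : L) * d * a⁻¹ * (d : L)⁻¹ = a * d' * a⁻¹ * (d' : L)⁻¹ := congrArg Subtype.val he
    have h1 : a * ((d' : L)⁻¹ * d) = ((d' : L)⁻¹ * d) * a := by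
      calc a * ((d' : L)⁻¹ * d) = a * (d' : L)⁻¹ * a⁻¹ * (a * d * a⁻¹ * (d : L)⁻¹) * d * a := by group
        _ = a * (d' : L)⁻¹ * a⁻¹ * (a * d' * a⁻¹ * (d' : L)⁻¹) * d * a := by rw [e]
        _ = _ := by group
    exact (Subtype.ext (inv_mul_eq_one.1 (hfree _ (mul_mem (inv_mem d'.2) d.2) h1))).symm
  refine MonoidHom.ext fun x => ?_
  obtain ⟨d, rfl⟩ := (Finite.injective_iff_surjective.1 hinj) x
  have := DFunLike.congr_fun hl d
  show l (MulAut.conjNormal a d * d⁻¹) = 1
  rw [map_mul, map_inv, show l (MulAut.conjNormal a d) = l d from this, mul_inv_cancel]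

omit [Fintype L] in
theorem cj_of_mem {a : L} (ha : a ∈ commutator L) (l : (commutator L) →* ℂˣ) : cjHom a l = l :=
  MonoidHom.ext fun x => by
    show l (MulAut.conjNormal a x) = l x
    rw [show MulAut.conjNormal a x = ⟨a, ha⟩ * x * (⟨a, ha⟩ : commutator L)⁻¹ from rfl, map_mul, map_mul,
      map_inv, mul_inv_cancel_comm]

variable (L) in
/-- The action of `L/L'` on the linear characters of `L'`. -/
noncomputable def abAct : Abelianization L →* MulAut ((commutator L) →* ℂˣ) :=
  QuotientGroup.lift (commutator L)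
    ({ toFun := fun a =>
        { toFun := cjHom a⁻¹
          invFun := cjHom a
          left_inv := fun l => by rw [cjHom_comp, inv_mul_cancel a⁻¹ |> fun e => show a⁻¹ * a = 1 from inv_mul_cancel a, cjHom_id]
          right_inv := fun l => by rw [cjHom_comp, mul_inv_cancel, cjHom_id]
          map_mul' := fun _ _ => rfl }
       map_one' := MulEquiv.ext fun l => by
        show cjHom (1 : L)⁻¹ l = l
        rw [inv_one, cjHom_id]
       map_mul' := fun a b => MulEquiv.ext fun l => by
        show cjHom (a * b)⁻¹ l = cjHom a⁻¹ (cjHom b⁻¹ l)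
        rw [cjHom_comp, mul_inv_rev] } : L →* MulAut ((commutator L) →* ℂˣ))
    fun a ha => MulEquiv.ext fun l => cj_of_mem (inv_mem ha) l

omit [Fintype L] in
theorem abAct_of (a : L) (l : (commutator L) →* ℂˣ) : abAct L (mkA a) l = cjHom a⁻¹ l := rfl

theorem mem_stab_iff (a : L) (l : (commutator L) →* ℂˣ) :
    a ∈ stab (G := L) l ↔ mkA a ∈ stabPt (abAct L) l := by
  rw [mem_stabPt, abAct_of, mem_stab]
  exact ⟨fun h => by conv_lhs => rw [← h, cjHom_comp, mul_inv_cancel, cjHom_id],
    fun h => by conv_lhs => rw [← h, cjHom_comp, inv_mul_cancel, cjHom_id]⟩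

/-- The degree `|L : stab l|`. -/
theorem Setting.deg_lin (h : Setting L σ f q) {u : L} (hu : orderOf u = q)
    (hum : σ u * u⁻¹ ∉ commutator L) [Fintype (commutator L)] {l : (commutator L) →* ℂˣ} (hl : l ≠ 1) :
    (stab (G := L) l).index ≠ 1 ∧ ∃ χ : L → ℂ, Cfsg.IsIrrCharacter L χ ∧
      Cfsg.charDegree χ = (stab (G := L) l).index ∧
      Cfsg.classInner (fun n : commutator L => χ n) (linFun l) ≠ 0 := by
  classical
  obtain ⟨htop, hufree, hfree⟩ := h.complement hu hum
  refine ⟨fun e => hl (eq_one_of_fixed hufree (mem_stab.1 ?_)), ?_⟩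
  · rw [Subgroup.index_eq_one.1 e]; exact Subgroup.mem_top u
  set T := stab (G := L) l
  have hDT : commutator L ≤ T := fun d hd => mem_stab.2 (cj_of_mem hd l)
  choose s hs hsD using htop
  set A := Subgroup.centralizer ({u} : Set L)
  have hinf : ∀ a ∈ A, a ∈ commutator L → a = 1 := fun a ha haD =>
    hufree a haD (Subgroup.mem_centralizer_singleton_iff.1 ha).symm
  have hsm : ∀ x y, s (x * y) = s x * s y := by
    intro x y
    have h1 : mkA (s (x * y)) = mkA (s x * s y) := by
      have e : ∀ z, mkA z = mkA (s z) := fun z => QuotientGroup.eq.2 (hsD z)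
      rw [map_mul, ← e, ← e, ← e, map_mul]
    exact mul_inv_eq_one.1 (hinf _ (mul_mem (hs _) (inv_mem (mul_mem (hs x) (hs y)))) (mk_eq_iff.1 h1))
  have hd : ∀ x, x * (s x)⁻¹ ∈ commutator L := fun x =>
    mk_eq_iff.1 (QuotientGroup.eq.2 (hsD x) : mkA x = mkA (s x))
  let F : T →* ℂˣ :=
    { toFun := fun x => l ⟨(x : L) * (s x)⁻¹, hd x⟩
      map_one' := by
        have h1 : s (1 : L) = 1 := mul_eq_left.1 (by rw [← hsm, one_mul] : s 1 * s 1 = s 1)
        convert map_one l
        simp [h1]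
      map_mul' := fun x y => by
        have hsx : s x ∈ T := by
          have : s x = ((x : L) * (s x)⁻¹)⁻¹ * x := by group
          rw [this]
          exact mul_mem (inv_mem (hDT (hd x))) x.2
        have e : (⟨(x * y : T) * (s (x * y : T))⁻¹, hd _⟩ : commutator L) =
            ⟨(x : L) * (s x)⁻¹, hd x⟩ * MulAut.conjNormal (s x) ⟨(y : L) * (s y)⁻¹, hd y⟩ := by
          refine Subtype.ext ?_
          simp only [Subgroup.coe_mul, MulAut.conjNormal_apply, hsm]
          group
        show l _ = _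
        rw [e, map_mul]
        congr 1
        exact DFunLike.congr_fun (mem_stab.1 hsx) _ }
  have hT : ∀ g : L, g ∈ T ↔ conjFun (commutator L) g (linFun l) = linFun l := fun g => by
    rw [conjFun_linFun, linFun_injective.eq_iff]
    exact mem_stab
  refine exists_deg_eq_index (commutator L) l T hT hDT F fun n => ?_
  have h1 : s (n : L) = 1 := hinf _ (hs _) (by
    have := mul_mem (inv_mem (hd (n : L))) n.2
    simpa [mul_assoc] using this)
  show l _ = l n
  congr 1
  exact Subtype.ext (by simp [h1])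

end CfsgLib.NoDiv
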