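import Cfsg.Agent.Lib.CharBlocks.NoDiv.Abelian

/-!
# The common stabilizer and the twists of a character of `L'`

* `stab_const`: all non-trivial linear characters of `L'` have one stabilizer;
* `inertia_not_le`: non-linear characters of `L'` have a larger inertia group;
* `twist_fixed`: they are fixed by all linear twists.
-/

set_option autoImplicit false

namespace CfsgLib.NoDiv

open CfsgLib.Char CfsgLib.ThreeDeg
open CfsgLib.CharNormal hiding stab mem_stab
open CfsgLib.CharBlocks.RelGraph (cjHom stab mem_stab cjHom_comp cjHom_id cjHom_apply conjFun_linFun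
  lin linFun_isIrr Over exists_over cjHom_mul)

attribute [-instance] MonoidHom.instPow MonoidHom.mul MonoidHom.instInv instOneMonoidHom

universe u

variable {L : Type u} [Group L] [Fintype L] {σ : MulAut L} {f q : ℕ}

attribute [local instance] finite_hom

local notation "mkA" => (Abelianization.of : L →* Abelianization L)

theorem stab_index (l : (commutator L) →* ℂˣ) :
    (stab (G := L) l).index = (stabPt (abAct L) l).index := by
  rw [show stab (G := L) l = (stabPt (abAct L) l).comap mkA from
    Subgroup.ext fun a => (mem_stab_iff a l)]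
  exact Subgroup.index_comap_of_surjective _ QuotientGroup.mk_surjective

variable [Fintype (commutator L)]

/-- One stabilizer for all non-trivial linear characters. -/
theorem Setting.stab_const (h : Setting L σ f q) {u : L} (hu : orderOf u = q)
    (hum : σ u * u⁻¹ ∉ commutator L) {l₁ l₂ : (commutator L) →* ℂˣ} (h₁ : l₁ ≠ 1) (h₂ : l₂ ≠ 1) :
    stab (G := L) l₁ = stab l₂ := by
  have : Finite (Abelianization L) := inferInstanceAs (Finite (L ⧸ commutator L))
  have heq := stab_eq (abAct L) (fun l m hl hm hle => by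
    obtain ⟨hl1, χ, hχ, hd, -⟩ := h.deg_lin hu hum hl
    obtain ⟨hm1, χ', hχ', hd', -⟩ := h.deg_lin hu hum hm
    have hdvd : (stabPt (abAct L) m).index ∣ (stabPt (abAct L) l).index := Subgroup.index_dvd_of_le hle
    rw [← stab_index, ← stab_index] at hdvd
    have he := h.anti χ' χ hχ' hχ (hd' ▸ hm1) (hd ▸ hl1) (by rw [hd, hd']; exact hdvd)
    rw [hd, hd', stab_index, stab_index] at he
    refine le_antisymm hle (Subgroup.relIndex_eq_one.1 ?_)
    have := Subgroup.relIndex_mul_index hle
    rw [← he] at this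
    exact (mul_eq_right₀ Subgroup.index_ne_zero_of_finite).1 this) h₁ h₂
  ext a
  rw [mem_stab_iff, mem_stab_iff, heq]

/-- A non-linear character of `L'` has an inertia group outside the common stabilizer. -/
theorem Setting.inertia_not_le (h : Setting L σ f q) {u : L} (hu : orderOf u = q)
    (hum : σ u * u⁻¹ ∉ commutator L) {l₀ : (commutator L) →* ℂˣ} (hl₀ : l₀ ≠ 1)
    {θ : commutator L → ℂ} (hθ : Cfsg.IsIrrCharacter (commutator L) θ) (hd : θ 1 ≠ 1) :
    ¬ inertia (commutator L) θ ≤ stab l₀ := by
  intro hle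
  obtain ⟨he1, χ, hχ, hχd, -⟩ := h.deg_lin hu hum hl₀
  obtain ⟨m, hm, hm1⟩ := exists_degree_pos hθ
  have hm2 : 2 ≤ m := by
    by_contra hlt
    exact hd (by rw [hm1, show m = 1 by omega, Nat.cast_one])
  obtain ⟨d, hov⟩ := exists_over (G := L) (⟨θ, hθ⟩ : Cfsg.IrrCharacter (commutator L))
  obtain ⟨k, hk⟩ := hov.degree (m := m) hm1
  obtain ⟨ψ, -, hψd⟩ := hov
  have hidx := Subgroup.index_dvd_of_le hle
  have hpos : 0 < d := hψd ▸ deg_pos ψ.2
  have hdvd : (stab (G := L) l₀).index ∣ d := by
    rw [hk]; exact (hidx.mul_left k).mul_right m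
  have hd1 : d ≠ 1 := fun e => by
    have : m ∣ 1 := ⟨k * (inertia (commutator L) θ).index, by rw [← e, hk]; ring⟩
    have := Nat.le_of_dvd one_pos this
    omega
  have he := h.anti χ ψ hχ ψ.2 (hχd ▸ he1) (hψd ▸ hd1) (by rw [hχd, hψd]; exact hdvd)
  have he' : (stab (G := L) l₀).index = k * (inertia (commutator L) θ).index * m := by
    rw [← hk, ← hχd, he, hψd]
  have h1 : (stab (G := L) l₀).index ≤ (inertia (commutator L) θ).index :=
    Nat.le_of_dvd (Nat.pos_of_ne_zero Subgroup.index_ne_zero_of_finite) hidx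
  have hk0 : 0 < k := Nat.pos_of_ne_zero fun e => by rw [hk, e] at hpos; simp at hpos
  have h2 := Nat.mul_le_mul (Nat.le_mul_of_pos_left (inertia (commutator L) θ).index hk0) hm2
  have h3 : 0 < (inertia (commutator L) θ).index := Nat.pos_of_ne_zero Subgroup.index_ne_zero_of_finite
  omega

omit [Fintype (commutator L)] in
theorem conjFun_mul_lin (g : L) (θ : commutator L → ℂ) (l : (commutator L) →* ℂˣ) :
    conjFun (commutator L) g (θ * linFun l) = conjFun (commutator L) g θ * linFun (cjHom g l) := by
  rw [← conjFun_linFun]; rfl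

omit [Fintype L] [Fintype (commutator L)] in
theorem linFun_mul (l m : (commutator L) →* ℂˣ) : linFun (l * m) = linFun l * linFun m :=
  funext fun _ => Units.val_mul _ _

omit [Fintype L] [Fintype (commutator L)] in
theorem linFun_one' : linFun (1 : (commutator L) →* ℂˣ) = 1 :=
  funext fun _ => Units.val_one

/-- The characters of `L'` fixed by a twist. -/
def twistStab (θ : commutator L → ℂ) : Subgroup ((commutator L) →* ℂˣ) where
  carrier := {l | θ * linFun l = θ}
  one_mem' := by show θ * linFun 1 = θ; rw [linFun_one', mul_one]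
  mul_mem' := fun {a b} (ha : θ * linFun a = θ) (hb : θ * linFun b = θ) => by
    show θ * linFun (a * b) = θ
    rw [linFun_mul, ← mul_assoc, ha, hb]
  inv_mem' := fun {a} (ha : θ * linFun a = θ) => by
    show θ * linFun a⁻¹ = θ
    conv_lhs => rw [← ha, mul_assoc, ← linFun_mul, mul_inv_cancel, linFun_one', mul_one]

/-- The map `l ↦ l^x / l`. -/
def cjDiff (x : L) : ((commutator L) →* ℂˣ) →* ((commutator L) →* ℂˣ) where
  toFun l := cjHom x l * l⁻¹
  map_one' := MonoidHom.ext fun y => by
    show (1 : ℂˣ) * (1 : ℂˣ)⁻¹ = 1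
    rw [inv_one, mul_one]
  map_mul' := fun a b => MonoidHom.ext fun y => by
    show a _ * b _ * (a y * b y)⁻¹ = a _ * (a y)⁻¹ * (b _ * (b y)⁻¹)
    rw [mul_inv, mul_mul_mul_comm]

omit [Fintype (commutator L)] in
theorem cjHom_comm (a b : L) (l : (commutator L) →* ℂˣ) : cjHom a (cjHom b l) = cjHom b (cjHom a l) := by
  rw [cjHom_comp, cjHom_comp]
  have hc : b * a = (b * a * b⁻¹ * a⁻¹) * (a * b) := by group
  rw [hc, ← cjHom_comp, cj_of_mem (show b * a * b⁻¹ * a⁻¹ ∈ commutator L from
    Subgroup.commutator_mem_commutator (Subgroup.mem_top b) (Subgroup.mem_top a))]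

omit [Fintype (commutator L)] in
/-- Membership in the twist stabilizer pulls back along a free difference map. -/
theorem mem_twistStab_of_diff {θ : commutator L → ℂ} {x : L} (hx : conjFun (commutator L) x θ = θ)
    (hinj : Function.Injective (cjDiff x)) {m : (commutator L) →* ℂˣ}
    (hm : cjDiff x m ∈ twistStab θ) : m ∈ twistStab θ := by
  have hS : ∀ s ∈ twistStab θ, cjDiff x s ∈ twistStab θ := fun s hs => by
    refine mul_mem ?_ (inv_mem hs)
    show θ * linFun (cjHom x s) = θ
    calc θ * linFun (cjHom x s) = conjFun (commutator L) x (θ * linFun s) := by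
          rw [conjFun_mul_lin, hx]
      _ = θ := by rw [show θ * linFun s = θ from hs, hx]
  let g : twistStab θ → twistStab θ := fun s => ⟨cjDiff x s, hS s s.2⟩
  have hg : Function.Injective g := fun a b e => Subtype.ext (hinj (congrArg Subtype.val e))
  obtain ⟨s, hs⟩ := (Finite.injective_iff_surjective.1 hg) ⟨_, hm⟩
  rw [← hinj (congrArg Subtype.val hs)]
  exact s.2

/-- Non-linear characters of `L'` are fixed by all linear twists. -/
theorem Setting.twist_fixed (h : Setting L σ f q) {u : L} (hu : orderOf u = q)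
    (hum : σ u * u⁻¹ ∉ commutator L) {l₀ : (commutator L) →* ℂˣ} (hl₀ : l₀ ≠ 1)
    {θ : commutator L → ℂ} (hθ : Cfsg.IsIrrCharacter (commutator L) θ) (hd : θ 1 ≠ 1)
    (l : (commutator L) →* ℂˣ) : θ * linFun l = θ := by
  obtain ⟨b, hb, hbl⟩ := SetLike.not_le_iff_exists.1 (h.inertia_not_le hu hum hl₀ hθ hd)
  by_contra hl
  obtain ⟨x, hx, hxl⟩ := SetLike.not_le_iff_exists.1 (h.inertia_not_le hu hum hl₀
    (twist_spec hθ l).1 (by rwa [(twist_spec hθ l).2]))
  have hinj : ∀ y, y ∉ stab l₀ → Function.Injective (cjDiff (L := L) y) := by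
    intro y hy
    rw [← MonoidHom.ker_eq_bot_iff, eq_bot_iff]
    intro m hm
    by_contra hm1
    refine hy (h.stab_const hu hum (fun e => hm1 (Subgroup.mem_bot.2 e)) hl₀ ▸ ?_)
    exact mem_stab.2 (mul_inv_eq_one.1 hm)
  rw [mem_inertia] at hb hx
  have hbi := hinj b hbl
  have hxi := hinj x hxl
  set m := l * (cjHom x l)⁻¹ with hm
  have hθx : conjFun (commutator L) x θ = θ * linFun m := by
    rw [conjFun_mul_lin] at hx
    calc conjFun (commutator L) x θ
        = conjFun (commutator L) x θ * linFun (cjHom x l) * linFun (cjHom x l)⁻¹ := by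
          rw [mul_assoc, ← linFun_mul, mul_inv_cancel, linFun_one', mul_one]
      _ = θ * linFun m := by rw [hx, mul_assoc, ← linFun_mul]
  have hbm : cjDiff b m ∈ twistStab θ := by
    show θ * linFun (cjHom b m * m⁻¹) = θ
    have h1 : conjFun (commutator L) b (conjFun (commutator L) x θ) = θ * linFun (cjHom b m) := by
      rw [hθx, conjFun_mul_lin, hb]
    have h2 : conjFun (commutator L) b (conjFun (commutator L) x θ) = θ * linFun m := by
      rw [conjFun_conjFun, show x * b = (x * b * x⁻¹ * b⁻¹) * (b * x) by group, ← conjFun_conjFun,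
        conjFun_of_mem _ (isClassFunction_of_isIrr hθ) (show x * b * x⁻¹ * b⁻¹ ∈ commutator L from
          Subgroup.commutator_mem_commutator (Subgroup.mem_top x) (Subgroup.mem_top b)),
        ← conjFun_conjFun, hb, hθx]
    rw [linFun_mul, ← mul_assoc, ← h1, h2, mul_assoc, ← linFun_mul, mul_inv_cancel, linFun_one', mul_one]
  have hm' : θ * linFun m = θ := mem_twistStab_of_diff hb hbi hbm
  rw [hm'] at hθx
  refine hl (mem_twistStab_of_diff hθx hxi ?_)
  have : cjDiff x l = m⁻¹ := MonoidHom.ext fun y => by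
    show cjHom x l y * (l y)⁻¹ = (l y * (cjHom x l y)⁻¹)⁻¹
    rw [mul_inv_rev, inv_inv]
  rw [this]
  exact inv_mem (show m ∈ twistStab θ from hm')

end CfsgLib.NoDiv
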