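import Cfsg.Agent.Lib.CharBlocks.NoDiv.ClassTwo
import Cfsg.Agent.Lib.CharBlocks.NoDiv.AbelianTwist

/-!
# All non-linear degrees agree when `q` is prime to `|L'|`

* `Setting.derived_comm`: `L'` is abelian;
* `Setting.same_degree`: the non-linear degrees are equal.
-/

set_option autoImplicit false

namespace CfsgLib.NoDiv

open CfsgLib.Char CfsgLib.ThreeDeg
open CfsgLib.CharNormal hiding stab mem_stab
open CfsgLib.CharBlocks.RelGraph (cjHom stab mem_stab cjHom_comp cjHom_id cjHom_apply conjFun_linFun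
  lin linFun_isIrr Over cjHom_mul)
open scoped commutatorElement

attribute [-instance] MonoidHom.instPow MonoidHom.mul MonoidHom.instInv instOneMonoidHom

universe u

variable {L : Type u} [Group L] [Fintype L] {σ : MulAut L} {f q : ℕ}

attribute [local instance] finite_hom

local notation "mkA" => (Abelianization.of : L →* Abelianization L)

omit [Fintype L] in
/-- `σ` restricted to `L'`. -/
def derivedAut (σ : MulAut L) : MulAut (commutator L) :=
  (σ.subgroupMap (commutator L)).trans (MulEquiv.subgroupCongr (by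
    rw [commutator_def, Subgroup.map_commutator, Subgroup.map_top_of_surjective _ σ.surjective]))

omit [Fintype L] in
theorem derivedAut_coe (σ : MulAut L) (x : commutator L) : (derivedAut σ x : L) = σ x := rfl

omit [Fintype L] in
theorem derivedAut_symm_coe (σ : MulAut L) (x : commutator L) :
    ((derivedAut σ).symm x : L) = σ.symm x := σ.injective (by
  rw [← derivedAut_coe, MulEquiv.apply_symm_apply, MulEquiv.apply_symm_apply])

/-- The derived subgroup is abelian. -/
theorem Setting.derived_comm (h : Setting L σ f q) :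
    ∀ a ∈ commutator L, ∀ b ∈ commutator L, a * b = b * a := by
  classical
  by_contra hne
  obtain ⟨u, hu, hum⟩ := h.exists_u
  obtain ⟨htop, hufree, hfree⟩ := h.complement hu hum
  have := Fintype.ofFinite (commutator L)
  have := Fact.mk h.prime
  -- nilpotency
  have hnil : Group.IsNilpotent (commutator L) := by
    set φ : commutator L ≃* commutator L := MulAut.conjNormal u with hφ
    refine Cfsg.Agent.S0033.result φ (fun x hx => Subtype.ext (hufree x x.2 ?_)) q h.prime ?_
    · exact mul_inv_eq_iff_eq_mul.1 (congrArg Subtype.val hx)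
    · refine orderOf_eq_prime ?_ fun e => hne fun a ha b hb => ?_
      · rw [hφ, ← map_pow, ← hu, pow_orderOf_eq_one, map_one]
      · have h1 : ∀ x (hx : x ∈ commutator L), x = 1 := fun x hx => hufree x hx
          (mul_inv_eq_iff_eq_mul.1 (show u * x * u⁻¹ = x by
            have h2 := congrArg Subtype.val (DFunLike.congr_fun e ⟨x, hx⟩)
            rw [hφ, MulAut.conjNormal_apply] at h2
            exact h2))
        rw [h1 a ha, h1 b hb]
  obtain ⟨E, p, hp, hEn, hED, hCE, hCnE, hpow⟩ := exists_class_two (commutator L) hnil hne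
  set C : Subgroup L := ⁅commutator L, commutator L⁆ with hCdef
  have : C.Normal := Subgroup.commutator_normal _ _
  have hCD : C ≤ commutator L := Subgroup.commutator_le_left _ _
  have := Fintype.ofFinite C
  have hmemC : ∀ x : commutator L, x ∈ commutator (commutator L) ↔ (x : L) ∈ C := fun x => by
    rw [hCdef, ← Subgroup.map_subtype_commutator]
    exact ⟨fun hx => ⟨x, hx, rfl⟩, fun ⟨y, hy, e⟩ => Subtype.ext e ▸ hy⟩
  obtain ⟨v, hvD, hv⟩ := SetLike.not_le_iff_exists.1 (comm_kill (commutator L) E hCE hCnE)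
  have hvC : v ∉ C := fun e => hv (Subgroup.mem_sup_left e)
  -- separating characters
  have hsep : ∀ K : Subgroup (commutator L), K.Normal → commutator (commutator L) ≤ K →
      ∀ x, x ∉ K → ∃ l : (commutator L) →* ℂˣ, (∀ k ∈ K, l k = 1) ∧ l x ≠ 1 := by
    intro K hK hle x hx
    let _ : CommGroup (commutator L ⧸ K) :=
      { (inferInstance : Group (commutator L ⧸ K)) with
        mul_comm := fun a b => by
          obtain ⟨a, rfl⟩ := QuotientGroup.mk_surjective a
          obtain ⟨b, rfl⟩ := QuotientGroup.mk_surjective b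
          rw [← commutatorElement_eq_one_iff_mul_comm, ← QuotientGroup.mk'_apply, ← QuotientGroup.mk'_apply,
            ← map_commutatorElement]
          exact (QuotientGroup.eq_one_iff _).2 (hle (Subgroup.commutator_mem_commutator
            (Subgroup.mem_top a) (Subgroup.mem_top b))) }
    have : NeZero (Monoid.exponent (commutator L ⧸ K) : ℂ) :=
      ⟨by exact_mod_cast Monoid.exponent_ne_zero_of_finite⟩
    obtain ⟨φ, hφ⟩ := CommGroup.exists_apply_ne_one_of_hasEnoughRootsOfUnity (commutator L ⧸ K) ℂ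
      (a := (x : commutator L ⧸ K)) (fun e => hx ((QuotientGroup.eq_one_iff x).1 e))
    exact ⟨φ.comp (QuotientGroup.mk' K), fun k hk => by
      rw [MonoidHom.comp_apply, QuotientGroup.mk'_apply, (QuotientGroup.eq_one_iff k).2 hk, map_one], hφ⟩
  -- linear characters trivial on `E`
  let Λ₀ : Subgroup ((commutator L) →* ℂˣ) :=
    { carrier := {l | ∀ x : commutator L, (x : L) ∈ E → l x = 1}
      one_mem' := fun _ _ => rfl
      mul_mem' := fun {a b} ha hb x hx => by
        show a x * b x = 1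
        rw [ha x hx, hb x hx, one_mul]
      inv_mem' := fun {a} ha x hx => by
        show (a x)⁻¹ = 1
        rw [ha x hx, inv_one] }
  obtain ⟨lv, hlv, hlvv⟩ := hsep ((C ⊔ E).subgroupOf (commutator L)) inferInstance
    (fun x hx => Subgroup.mem_sup_left ((hmemC x).1 hx)) ⟨v, hvD⟩ hv
  have hlv0 : lv ≠ 1 := fun e => hlvv (by rw [e]; rfl)
  have hlvΛ : lv ∈ Λ₀ := fun x hx => hlv x (Subgroup.mem_sup_right hx)
  obtain ⟨he1, χ₀, hχ₀, hχ₀d, -⟩ := h.deg_lin hu hum hlv0
  have hfe : f.Coprime (stab (G := L) lv).index := hχ₀d ▸ h.cop χ₀ hχ₀ (hχ₀d ▸ he1)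
  have hinj : ∀ y, y ∉ stab lv → Function.Injective (cjDiff (L := L) y) := by
    intro y hy
    rw [← MonoidHom.ker_eq_bot_iff, eq_bot_iff]
    intro m hm
    by_contra hm1
    exact hy (h.stab_const hu hum (fun e => hm1 (Subgroup.mem_bot.2 e)) hlv0 ▸
      mem_stab.2 (mul_inv_eq_one.1 hm))
  -- a non-linear character trivial on `E` and an element fixing it
  obtain ⟨c₀, hc₀, hc₀E⟩ := SetLike.not_le_iff_exists.1 hCnE
  obtain ⟨θ₀, hθ₀, hθ₀E, hθ₀c⟩ : ∃ θ : commutator L → ℂ, Cfsg.IsIrrCharacter (commutator L) θ ∧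
      (∀ x : commutator L, (x : L) ∈ E → θ x = θ 1) ∧ θ ⟨c₀, hCD hc₀⟩ ≠ θ 1 := by
    have : (E.subgroupOf (commutator L)).Normal := hEn.subgroupOf _
    have := Fintype.ofFinite (commutator L ⧸ E.subgroupOf (commutator L))
    by_contra hall
    push Not at hall
    refine hc₀E ((QuotientGroup.eq_one_iff (N := E.subgroupOf (commutator L)) ⟨c₀, hCD hc₀⟩).1
      (isConj_one_left.1 ((isConj_iff_forall_irr _ _).2 fun β => ?_)))
    exact hall _ (isIrr_comp_mk' _ β.2) (fun x hx => by
      rw [Function.comp_apply, Function.comp_apply, (QuotientGroup.eq_one_iff x).2 hx, QuotientGroup.mk_one])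
  have hθ₀1 : θ₀ 1 ≠ 1 := fun e => by
    obtain ⟨g, hg⟩ := exists_linHom (isCharacter_of_isIrr hθ₀) e
    refine hθ₀c ?_
    rw [e, ← hg, linFun_apply]
    exact congrArg Units.val (Abelianization.commutator_subset_ker g ((hmemC _).2 hc₀))
  obtain ⟨b, hb, hbl⟩ := SetLike.not_le_iff_exists.1 (h.inertia_not_le hu hum hlv0 hθ₀ hθ₀1)
  rw [mem_inertia] at hb
  -- `b`-fixed characters of `C` trivial on `E`
  let W : Subgroup (C →* ℂˣ) :=
    { carrier := {μ | (∀ x : C, (x : L) ∈ E → μ x = 1) ∧ cjHom b μ = μ}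
      one_mem' := ⟨fun _ _ => rfl, rfl⟩
      mul_mem' := fun {a a'} ha ha' => ⟨fun x hx => by
        show a x * a' x = 1
        rw [ha.1 x hx, ha'.1 x hx, one_mul], by rw [cjHom_mul, ha.2, ha'.2]⟩
      inv_mem' := fun {a} ha => ⟨fun x hx => by
        show (a x)⁻¹ = 1
        rw [ha.1 x hx, inv_one], MonoidHom.ext fun x => congrArg (·⁻¹) (DFunLike.congr_fun ha.2 x)⟩ }
  have hDinv : ∀ μ ∈ W, ∀ d ∈ commutator L, cjHom d μ = μ := by
    intro μ hμ d hd
    refine MonoidHom.ext fun x => ?_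
    have h1 : μ (MulAut.conjNormal d x * x⁻¹) = 1 := hμ.1 _ (by
      have := hCE (Subgroup.commutator_mem_commutator x.2 hd)
      rw [commutatorElement_def] at this
      have := inv_mem this
      simpa [mul_assoc] using this)
    rw [map_mul, map_inv, mul_inv_eq_one] at h1
    exact h1
  have hradical : ∀ μ ∈ W, μ ≠ 1 → ∀ w : L, (hw : w ∈ commutator L) → w ∉ C →
      (∀ y (hy : y ∈ commutator L), μ ⟨⁅w, y⁆, Subgroup.commutator_mem_commutator hw hy⟩ = 1) → False := by
    intro μ hμ hμ1 w hw hwC hrad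
    let K := C.subgroupOf (commutator L)
    have : K.Normal := (inferInstance : C.Normal).subgroupOf _
    have := Fintype.ofFinite K
    let μ' : K →* ℂˣ := μ.comp (Subgroup.subgroupOfEquivOfLe hCD).toMonoidHom
    obtain ⟨θ, hθ⟩ := exists_irr_over (G := commutator L) K (linFun_isIrr μ')
    have hres := res_eq_smul_of_invariant K θ.2 (linFun_isIrr μ') (fun d => funext fun n => by
      rw [conjFun_apply, linFun_apply, linFun_apply]
      exact congrArg Units.val (DFunLike.congr_fun (hDinv μ hμ d d.2) ⟨((n : commutator L) : L), n.2⟩)) hθ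
    have hθC : ∀ x (hx : x ∈ C), (θ : commutator L → ℂ) ⟨x, hCD hx⟩ =
        (θ : commutator L → ℂ) 1 * (μ ⟨x, hx⟩ : ℂ) := by
      intro x hx
      have e1 := congrFun hres 1
      have e2 := congrFun hres ⟨⟨x, hCD hx⟩, hx⟩
      simp only [Pi.smul_apply, smul_eq_mul, linFun_apply, map_one, Units.val_one, mul_one,
        OneMemClass.coe_one] at e1 e2
      rw [e1]
      exact e2
    obtain ⟨η, hη⟩ := exists_twist_eq θ.2 (isIrr_conjFun (commutator L) θ.2 b) fun x hx => by
      rw [conjFun_apply, conjFun_apply_one]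
      have h1 := hθC _ ((inferInstance : C.Normal).conj_mem x ((hmemC x).1 hx) b)
      have h2 := hθC _ ((hmemC x).1 hx)
      have h3 : (μ ⟨b * (x : L) * b⁻¹, (inferInstance : C.Normal).conj_mem x ((hmemC x).1 hx) b⟩ : ℂ) =
          μ ⟨(x : L), (hmemC x).1 hx⟩ :=
        congrArg Units.val (DFunLike.congr_fun hμ.2 ⟨(x : L), (hmemC x).1 hx⟩)
      rw [h1, h3, h2]
    obtain ⟨m, hm⟩ := (Finite.injective_iff_surjective.1 (hinj b hbl)) η⁻¹
    set θ' := (θ : commutator L → ℂ) * linFun m with hθ'def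
    obtain ⟨hθ', hθ'1⟩ := twist_spec θ.2 m
    have hθ'C : ∀ x (hx : x ∈ C), θ' ⟨x, hCD hx⟩ = θ' 1 * (μ ⟨x, hx⟩ : ℂ) := fun x hx => by
      have h1 : m ⟨x, hCD hx⟩ = 1 := Abelianization.commutator_subset_ker m ((hmemC _).2 hx)
      rw [hθ'def, hθ'1, Pi.mul_apply, linFun_apply, h1, Units.val_one, mul_one, hθC x hx]
    have hθ'b : conjFun (commutator L) b θ' = θ' := by
      rw [hθ'def, conjFun_mul_lin, hη, mul_assoc, ← linFun_mul]
      congr 2
      have h1 : cjHom b m = η⁻¹ * m := by rw [← hm]; exact (inv_mul_cancel_right _ m).symm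
      rw [h1, mul_inv_cancel_left]
    have hθ'ne : θ' 1 ≠ 1 := fun e => hμ1 (MonoidHom.ext fun x => Units.ext (by
      obtain ⟨g, hg⟩ := exists_linHom (isCharacter_of_isIrr hθ') e
      have h1 := hθ'C x x.2
      rw [e, one_mul, show θ' = linFun g from hg.symm, linFun_apply,
        (Abelianization.commutator_subset_ker g ((hmemC _).2 x.2) : g ⟨(x : L), hCD x.2⟩ = 1)] at h1
      exact h1.symm))
    have hzero : θ' ⟨w, hw⟩ = 0 := by
      obtain ⟨l, -, hl⟩ := hsep _ inferInstance le_rfl ⟨w, hw⟩ fun e => hwC ((hmemC _).1 e)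
      have h1 := congrFun (h.twist_fixed hu hum hlv0 hθ' hθ'ne l) ⟨w, hw⟩
      rw [Pi.mul_apply, linFun_apply] at h1
      by_contra h0
      exact hl (Units.ext (mul_left_cancel₀ h0 (h1.trans (mul_one _).symm)))
    refine (central_mul hθ' (c := ⟨w, hw⟩) fun y => ?_).1 hzero
    have h1 := hθ'C _ (Subgroup.commutator_mem_commutator hw y.2)
    rw [hrad y y.2, Units.val_one, mul_one] at h1
    exact (congrArg θ' (Subtype.ext (by simp [commutatorElement_def]))).trans h1
  -- a non-trivial element of `W`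
  obtain ⟨μ₀, hμ₀, hμ₀1⟩ : ∃ μ ∈ W, μ ≠ 1 := by
    have hcen : ∀ x : C, ∀ y : commutator L,
        θ₀ (⟨x, hCD x.2⟩ * y * (⟨x, hCD x.2⟩ : commutator L)⁻¹ * y⁻¹) = θ₀ 1 := fun x y =>
      hθ₀E _ (by simpa [commutatorElement_def] using hCE (Subgroup.commutator_mem_commutator x.2 y.2))
    let μ : C →* ℂˣ :=
      { toFun := fun x => Units.mk0 (θ₀ ⟨x, hCD x.2⟩ / θ₀ 1)
          (div_ne_zero (central_mul hθ₀ (hcen x)).1 (irr_one_ne_zero hθ₀))
        map_one' := Units.ext (div_self (irr_one_ne_zero hθ₀))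
        map_mul' := fun x y => Units.ext (by
          show θ₀ (⟨x, hCD x.2⟩ * ⟨y, hCD y.2⟩) / θ₀ 1 = _
          rw [(central_mul hθ₀ (hcen x)).2, Units.val_mul, Units.val_mk0, Units.val_mk0, mul_div_assoc]) }
    refine ⟨μ, ⟨fun x hx => Units.ext ?_, MonoidHom.ext fun x => Units.ext ?_⟩, fun e => ?_⟩
    · show θ₀ ⟨x, hCD x.2⟩ / θ₀ 1 = 1
      rw [hθ₀E ⟨x, hCD x.2⟩ hx, div_self (irr_one_ne_zero hθ₀)]
    · show θ₀ ⟨(MulAut.conjNormal b x : C), hCD (MulAut.conjNormal b x).2⟩ / θ₀ 1 = θ₀ ⟨x, hCD x.2⟩ / θ₀ 1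
      have := congrFun hb ⟨x, hCD x.2⟩
      rw [conjFun_apply] at this
      rw [← this]
      rfl
    · refine hθ₀c ((div_eq_one_iff_eq (irr_one_ne_zero hθ₀)).1 ?_)
      exact congrArg Units.val (DFunLike.congr_fun e ⟨c₀, hc₀⟩)
  -- orders
  have hpΛ : ∃ i, Nat.card Λ₀ = p ^ i := by
    have := Fact.mk hp
    refine IsPGroup.iff_card.1 fun l => ?_
    choose k hk using fun x : commutator L => hpow x x.2
    refine ⟨∑ x, k x, Subtype.ext (MonoidHom.ext fun x => ?_)⟩
    show l.1 x ^ p ^ (∑ x, k x) = 1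
    rw [← map_pow]
    refine l.2 _ ?_
    obtain ⟨r, hr⟩ := pow_dvd_pow p (Finset.single_le_sum (fun y _ => Nat.zero_le (k y)) (Finset.mem_univ x))
    show (x : L) ^ p ^ _ ∈ E
    rw [hr, pow_mul]
    exact pow_mem (hk x) r
  have hpW : ∃ j, Nat.card W = p ^ j := by
    have := Fact.mk hp
    refine IsPGroup.iff_card.1 fun μ => ?_
    choose k hk using fun x : C => hpow x (hCD x.2)
    refine ⟨∑ x, k x, Subtype.ext (MonoidHom.ext fun x => ?_)⟩
    show μ.1 x ^ p ^ (∑ x, k x) = 1
    rw [← map_pow]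
    refine μ.2.1 _ ?_
    obtain ⟨r, hr⟩ := pow_dvd_pow p (Finset.single_le_sum (fun y _ => Nat.zero_le (k y)) (Finset.mem_univ x))
    show (x : L) ^ p ^ _ ∈ E
    rw [hr, pow_mul]
    exact pow_mem (hk x) r
  obtain ⟨i, hi⟩ := hpΛ
  obtain ⟨j, hj⟩ := hpW
  have hj0 : 0 < j := by
    refine Nat.pos_of_ne_zero fun e => hμ₀1 ?_
    rw [e, pow_zero, Subgroup.card_eq_one] at hj
    exact Subgroup.mem_bot.1 (hj ▸ hμ₀)
  have hji : j < i := by
    -- `μ ↦ μ[v, ·]`
    let g : W → Λ₀ := fun μ => ⟨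
      { toFun := fun y => μ.1 ⟨⁅v, (y : L)⁆, Subgroup.commutator_mem_commutator hvD y.2⟩
        map_one' := by convert map_one μ.1 using 2; exact Subtype.ext (by simp)
        map_mul' := fun y z => by
          have e : (⟨⁅v, ((y * z : commutator L) : L)⁆, Subgroup.commutator_mem_commutator hvD (y * z).2⟩ : C) =
              ⟨⁅v, (y : L)⁆, Subgroup.commutator_mem_commutator hvD y.2⟩ * MulAut.conjNormal (y : L)
                ⟨⁅v, (z : L)⁆, Subgroup.commutator_mem_commutator hvD z.2⟩ := by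
            refine Subtype.ext ?_
            simp [commutatorElement_def, mul_assoc]
          rw [e, map_mul]
          congr 1
          exact DFunLike.congr_fun (hDinv μ.1 μ.2 y y.2) _ }, fun y hy => μ.2.1 _ (by
            show ⁅v, (y : L)⁆ ∈ E
            rw [commutatorElement_def]
            exact mul_mem (hEn.conj_mem _ hy v) (inv_mem hy))⟩
    have hg : Function.Injective g := by
      intro μ μ' he
      by_contra hne'
      refine hradical (μ.1 * μ'.1⁻¹) (mul_mem μ.2 (inv_mem μ'.2))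
        (fun e => hne' (Subtype.ext (mul_inv_eq_one.1 e))) v hvD hvC fun y hy => ?_
      show μ.1 _ * (μ'.1 _)⁻¹ = 1
      rw [mul_inv_eq_one]
      exact DFunLike.congr_fun (congrArg Subtype.val he) (⟨y, hy⟩ : commutator L)
    have hnot : (⟨lv, hlvΛ⟩ : Λ₀) ∉ Set.range g := by
      rintro ⟨μ, hμ⟩
      refine hlvv ?_
      have := DFunLike.congr_fun (congrArg Subtype.val hμ) (⟨v, hvD⟩ : commutator L)
      rw [← this]
      show μ.1 _ = 1
      convert map_one μ.1 using 2
      exact Subtype.ext (commutatorElement_self v)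
    have := Fintype.ofFinite W
    have := Fintype.ofFinite Λ₀
    have hlt := Fintype.card_lt_of_injective_of_notMem g hg hnot
    rw [← Nat.card_eq_fintype_card, ← Nat.card_eq_fintype_card, hi, hj] at hlt
    exact (Nat.pow_lt_pow_iff_right hp.one_lt).1 hlt
  -- the action
  have : Finite (Abelianization L) := inferInstanceAs (Finite (L ⧸ commutator L))
  let σb : Abelianization L →* Abelianization L := Abelianization.map σ.toMonoidHom
  have hσb : ∀ x, σb (mkA x) = mkA (σ x) := fun x => rfl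
  set B := stabPt (abAct L) lv with hB
  have hBidx : B.index = (stab (G := L) lv).index := (stab_index lv).symm
  have hdiff : ∀ x s : L, mkA s = mkA (σ x) * (mkA x)⁻¹ → mkA s ∉ B → σ s * s⁻¹ ∉ commutator L := by
    intro x s hs hsB hm
    have h1 := h.diff_pow (mk_eq_iff.2 hm) (x := x) (by
      rw [hs, mul_comm (mkA (σ x)), mul_inv_cancel_left])
    refine hsB ((QuotientGroup.eq_one_iff _).1 (orderOf_eq_one_iff.1 (Nat.eq_one_of_dvd_coprimes
      (hBidx.symm ▸ hfe : f.Coprime B.index) (orderOf_dvd_of_pow_eq_one ?_) ?_)))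
    · rw [← QuotientGroup.mk_pow, h1, QuotientGroup.mk_one]
    · rw [Subgroup.index_eq_card]; exact orderOf_dvd_natCard _
  have hlift : ∀ s : L, σ s * s⁻¹ ∉ commutator L → ∀ {K : Subgroup L} (_ : K.Normal) (hKD : K ≤ commutator L)
      (μ : K →* ℂˣ), (∀ d ∈ commutator L, cjHom d μ = μ) → cjHom s⁻¹ μ = μ → μ = 1 := by
    intro s hs K _ hKD μ hμD hμs
    obtain ⟨a, ha, had⟩ := htop s
    have ham : σ a * a⁻¹ ∉ commutator L := fun hm => hs (mk_eq_iff.1 (by
      have e : mkA s = mkA a := QuotientGroup.eq.2 had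
      have e2 : mkA (σ s) = mkA (σ a) := by
        have := congrArg σb e
        simpa [hσb] using this
      rw [e2, e]; exact mk_eq_iff.2 hm))
    refine eq_one_of_fixed (a := a) (fun d hd => hfree a ha ham d (hKD hd)) ?_
    have h1 : cjHom s μ = μ := by conv_lhs => rw [← hμs, cjHom_comp, inv_mul_cancel, cjHom_id]
    rw [show a = s * (s⁻¹ * a) by group, ← cjHom_comp, h1, hμD _ had]
  have hne1 : diffHom σb B ≠ 1 := by
    intro e
    have h1 : mkA (σ u * u⁻¹) ∈ B := by
      have := DFunLike.congr_fun e (mkA u)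
      rw [diffHom_apply, MonoidHom.one_apply, QuotientGroup.eq_one_iff, hσb] at this
      rwa [map_mul, map_inv]
    by_cases hs : σ (σ u * u⁻¹) * (σ u * u⁻¹)⁻¹ ∈ commutator L
    · have h2 := h.diff_pow (mk_eq_iff.2 hs) (x := u) (by
        rw [map_mul, map_inv, mul_comm (mkA (σ u)), mul_inv_cancel_left])
      have h3 : mkA (σ u * u⁻¹) ^ q = 1 := by
        rw [map_mul, map_inv, mul_pow, inv_pow, ← map_pow, ← map_pow, ← map_pow, ← hu, pow_orderOf_eq_one]
        simp
      exact hum ((QuotientGroup.eq_one_iff _).1 (orderOf_eq_one_iff.1 (Nat.eq_one_of_dvd_coprimes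
        ((Nat.Prime.coprime_iff_not_dvd h.prime).2 h.fcop) (orderOf_dvd_of_pow_eq_one h3)
        (orderOf_dvd_of_pow_eq_one h2))))
    · refine hlv0 (hlift _ hs inferInstance le_rfl lv (fun d hd => cj_of_mem hd lv) ?_)
      have := (mem_stabPt (abAct L)).1 h1
      rwa [abAct_of] at this
  -- `|diffHom range|` divides `|W| - 1`
  have hw : Nat.card (diffHom σb B).range ∣ p ^ j - 1 := by
    let S : Subgroup L := (σb * (MonoidHom.id _)⁻¹).range.comap mkA
    let X := {μ : C →* ℂˣ // μ ∈ W ∧ μ ≠ 1}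
    let _ : MulAction S X :=
      { smul := fun s μ => ⟨cjHom (s : L)⁻¹ μ.1, ⟨fun x hx => μ.2.1.1 _ (by
            show (s : L)⁻¹ * x * (s : L)⁻¹⁻¹ ∈ E
            exact hEn.conj_mem _ hx _), by
          rw [cjHom_comp, show (s : L)⁻¹ * b = ((s : L)⁻¹ * b * (s : L) * b⁻¹) * (b * (s : L)⁻¹) by group,
            ← cjHom_comp, hDinv μ.1 μ.2.1 _ (show (s : L)⁻¹ * b * (s : L) * b⁻¹ ∈ commutator L by
              have := Subgroup.commutator_mem_commutator (Subgroup.mem_top (s : L)⁻¹) (Subgroup.mem_top b)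
              rwa [commutatorElement_def, inv_inv] at this), ← cjHom_comp, μ.2.1.2]⟩,
          fun e => μ.2.2 (by
            have h1 := congrArg (cjHom (s : L)) e
            rw [cjHom_comp, inv_mul_cancel, cjHom_id] at h1
            exact h1)⟩
        one_smul := fun μ => Subtype.ext (by
          show cjHom (1 : L)⁻¹ μ.1 = μ.1
          rw [inv_one, cjHom_id])
        mul_smul := fun s t μ => Subtype.ext (by
          show cjHom ((s : L) * t)⁻¹ μ.1 = cjHom (s : L)⁻¹ (cjHom (t : L)⁻¹ μ.1)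
          rw [cjHom_comp, mul_inv_rev]) }
    let φ : S →* Abelianization L ⧸ B := (QuotientGroup.mk' B).comp ((mkA).comp S.subtype)
    have hd := dvd_card_of_stab φ (X := X) fun μ s hs => by
      have h1 : cjHom (s : L)⁻¹ μ.1 = μ.1 := congrArg Subtype.val hs
      by_contra hB'
      obtain ⟨z, hz⟩ := s.2
      obtain ⟨x, rfl⟩ := QuotientGroup.mk_surjective z
      have hz' : mkA (σ x) * (mkA x)⁻¹ = mkA (s : L) := hz
      exact μ.2.2 (hlift _ (hdiff x s hz'.symm fun e => hB' ((QuotientGroup.eq_one_iff _).2 e))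
        inferInstance hCD μ.1 (hDinv μ.1 μ.2.1) h1)
    have hr : φ.range = (diffHom σb B).range := by
      rw [MonoidHom.range_comp, MonoidHom.range_comp, Subgroup.range_subtype,
        Subgroup.map_comap_eq_self_of_surjective QuotientGroup.mk_surjective, ← MonoidHom.range_comp]
      rfl
    have hX : Nat.card X = p ^ j - 1 := by
      rw [← hj]
      let e : X ≃ {l : W // l ≠ 1} :=
        { toFun := fun x => ⟨⟨x.1, x.2.1⟩, fun h => x.2.2 (congrArg Subtype.val h)⟩
          invFun := fun y => ⟨y.1.1, y.1.2, fun h => y.2 (Subtype.ext h)⟩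
          left_inv := fun x => rfl
          right_inv := fun y => rfl }
      have := Fintype.ofFinite W
      rw [Nat.card_congr e, Nat.card_eq_fintype_card, Nat.card_eq_fintype_card]
      simp [Fintype.card_subtype_compl]
    rwa [hr, hX] at hd
  let τ : MulAut ((commutator L) →* ℂˣ) :=
    { toFun := fun l => l.comp (derivedAut σ).symm.toMonoidHom
      invFun := fun l => l.comp (derivedAut σ).toMonoidHom
      left_inv := fun l => MonoidHom.ext fun x => by simp
      right_inv := fun l => MonoidHom.ext fun x => by simp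
      map_mul' := fun _ _ => rfl }
  refine count_absurd (abAct L) Λ₀ σb τ B (f := f) hp ?_ ?_ ?_ ?_ ?_ ?_ (hBidx.symm ▸ hfe) hne1 hi hj0 hji hw
  · intro z l hl x hx
    obtain ⟨a, rfl⟩ := QuotientGroup.mk_surjective z
    show cjHom a⁻¹ l x = 1
    exact hl _ (hEn.conj_mem _ hx _)
  · intro z l
    obtain ⟨a, rfl⟩ := QuotientGroup.mk_surjective z
    refine MonoidHom.ext fun x => ?_
    show l (MulAut.conjNormal a⁻¹ ((derivedAut σ).symm x)) = l ((derivedAut σ).symm (MulAut.conjNormal (σ a)⁻¹ x))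
    congr 1
    refine Subtype.ext ?_
    simp [derivedAut_symm_coe]
  · intro z
    obtain ⟨a, rfl⟩ := QuotientGroup.mk_surjective z
    have : ∀ n, σb^[n] (mkA a) = mkA (σ^[n] a) := fun n => by
      induction n with
      | zero => rfl
      | succ n ih => rw [Function.iterate_succ_apply', ih, hσb, ← Function.iterate_succ_apply' σ]
    exact (this f).trans (h.iterate_mk a)
  · obtain ⟨n₀, hn₀⟩ := h.period
    refine ⟨mkA n₀, fun l => MonoidHom.ext fun x => ?_⟩
    have : ∀ n (x : commutator L), τ^[n] l x = l ((derivedAut σ).symm^[n] x) := fun n => by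
      induction n with
      | zero => intro x; rfl
      | succ n ih => intro x; rw [Function.iterate_succ_apply', Function.iterate_succ_apply]; exact ih _
    rw [this, abAct_of]
    show l _ = l (MulAut.conjNormal n₀⁻¹ x)
    congr 1
    refine Subtype.ext ?_
    have h2 : ∀ n (x : commutator L), (((derivedAut σ).symm^[n] x : commutator L) : L) = σ.symm^[n] (x : L) := by
      intro n
      induction n with
      | zero => intro x; rfl
      | succ n ih => intro x; rw [Function.iterate_succ_apply', Function.iterate_succ_apply', derivedAut_symm_coe, ih]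
    rw [h2]
    refine (σ.injective.iterate f) ?_
    rw [(Function.LeftInverse.iterate σ.apply_symm_apply f) (x : L), hn₀, MulAut.conjNormal_apply]
    group
  · intro z l hl
    obtain ⟨a, rfl⟩ := QuotientGroup.mk_surjective z
    show a ∈ (stabPt (abAct L) l).comap mkA ↔ a ∈ B.comap mkA
    have e : ∀ m, (stabPt (abAct L) m).comap mkA = stab (G := L) m := fun m =>
      Subgroup.ext fun y => (mem_stab_iff y m).symm
    rw [hB, e, e, h.stab_const hu hum hl hlv0]
  · intro l
    by_cases hl : l = 1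
    · exact ⟨1, by subst hl; simp⟩
    obtain ⟨hl1, χ, hχ, hχd, h0⟩ := h.deg_lin hu hum hl
    have h2 : Cfsg.classInner (fun n : commutator L => χ n) (linFun (τ l)) ≠ 0 := by
      have e1 : (fun n : commutator L => χ n) = (fun n : commutator L => χ n) ∘ (derivedAut σ).symm := by
        funext n
        show χ n = χ ((derivedAut σ).symm n : commutator L)
        rw [derivedAut_symm_coe, ← h.inv χ hχ (hχd ▸ hl1) (σ.symm n), MulEquiv.apply_symm_apply]
      rw [e1, show linFun (τ l) = linFun l ∘ (derivedAut σ).symm from rfl,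
        classInner_comp_mulEquiv]
      exact h0
    obtain ⟨g, hg⟩ := exists_conj_of_constituents (commutator L) hχ (linFun_isIrr l) (linFun_isIrr (τ l)) h0 h2
    rw [conjFun_linFun, linFun_injective.eq_iff] at hg
    exact ⟨mkA g⁻¹, by rw [abAct_of, inv_inv, hg]⟩

/-- All non-linear degrees are equal. -/
theorem Setting.same_degree (h : Setting L σ f q) {ψ φ : L → ℂ} (hψ : Cfsg.IsIrrCharacter L ψ)
    (hφ : Cfsg.IsIrrCharacter L φ) (hψ1 : Cfsg.charDegree ψ ≠ 1) (hφ1 : Cfsg.charDegree φ ≠ 1) :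
    Cfsg.charDegree ψ = Cfsg.charDegree φ := by
  classical
  obtain ⟨u, hu, hum⟩ := h.exists_u
  have := Fintype.ofFinite (commutator L)
  have key : ∀ χ : L → ℂ, Cfsg.IsIrrCharacter L χ → Cfsg.charDegree χ ≠ 1 →
      ∃ l : (commutator L) →* ℂˣ, l ≠ 1 ∧ (stab (G := L) l).index ∣ Cfsg.charDegree χ := by
    intro χ hχ hχ1
    obtain ⟨θ, hθ, h0⟩ := exists_under (commutator L) hχ
    have h1 : θ 1 = 1 := irr_one_eq_one_of_comm (fun a b => Subtype.ext (h.derived_comm a a.2 b b.2)) hθ
    obtain ⟨l, hl⟩ := exists_linHom (isCharacter_of_isIrr hθ) h1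
    subst hl
    have hov : Over (G := L) (lin l) (Cfsg.charDegree χ) := ⟨⟨χ, hχ⟩, h0, rfl⟩
    refine ⟨l, fun e => hχ1 ?_, CfsgLib.CharBlocks.RelGraph.over_lin_index hov⟩
    subst e
    rw [linFun_one'] at h0
    have hker := res_eq_degree_of_constituent_one (commutator L) hχ h0
    have := Fintype.ofFinite (L ⧸ commutator L)
    obtain ⟨β, hβ, hβe⟩ := exists_irr_eq_comp_mk' (commutator L) hχ hker
    have hβ1 : β 1 = 1 := irr_one_eq_one_of_comm (fun a b => mul_comm (G := Abelianization L) a b) hβ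
    refine deg_of_cast ?_
    rw [← hβe, Function.comp_apply, QuotientGroup.mk_one, hβ1, Nat.cast_one]
  obtain ⟨l, hl, hlψ⟩ := key ψ hψ hψ1
  obtain ⟨m, hm, hmφ⟩ := key φ hφ hφ1
  obtain ⟨hl1, χ, hχ, hχd, -⟩ := h.deg_lin hu hum hl
  obtain ⟨hm1, χ', hχ', hχd', -⟩ := h.deg_lin hu hum hm
  rw [← h.anti χ ψ hχ hψ (hχd ▸ hl1) hψ1 (hχd ▸ hlψ), ← h.anti χ' φ hχ' hφ (hχd' ▸ hm1) hφ1 (hχd' ▸ hmφ),
    hχd, hχd', h.stab_const hu hum hl hm]

end CfsgLib.NoDiv
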