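import Cfsg.Agent.Lib.CharBlocks.NoDiv.AbelianTwist

/-!
# A nilpotent derived subgroup: a maximal quotient of class two

* `exists_class_two`: if `L'` is nilpotent and non-abelian there is a normal `E ≤ L'` with `L'/E`
  a non-abelian `p`-group whose derived subgroup is central;
* `comm_kill`: then some element lies outside `[L',L'] E`.
-/

set_option autoImplicit false

namespace CfsgLib.NoDiv

open scoped commutatorElement

universe u

variable {L : Type u} [Group L] [Finite L]

/-- A maximal normal subgroup with non-abelian quotient of class two. -/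
theorem exists_class_two (D : Subgroup L) [D.Normal] (hnil : Group.IsNilpotent D)
    (hne : ¬ ∀ a ∈ D, ∀ b ∈ D, a * b = b * a) :
    ∃ (E : Subgroup L) (p : ℕ), p.Prime ∧ E.Normal ∧ E ≤ D ∧ ⁅⁅D, D⁆, D⁆ ≤ E ∧ ¬ ⁅D, D⁆ ≤ E ∧
      ∀ d ∈ D, ∃ k, d ^ p ^ k ∈ E := by
  classical
  set C := ⁅D, D⁆ with hC
  have hCD : C ≤ D := Subgroup.commutator_le_left D D
  let P : Subgroup L → Prop := fun E => E.Normal ∧ E ≤ D ∧ ⁅C, D⁆ ≤ E ∧ ¬ C ≤ E
  have h0 : P ⁅C, D⁆ := by
    refine ⟨Subgroup.commutator_normal C D, (Subgroup.commutator_le_right C D), le_rfl, fun hle => hne ?_⟩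
    obtain ⟨n, hn⟩ := (Subgroup.isNilpotent_iff_lowerCentralSeries (S := D)).1 hnil
    have hall : ∀ n, C ≤ D.lowerCentralSeries n := by
      intro n
      induction n with
      | zero => rw [Subgroup.lowerCentralSeries_zero]; exact hCD
      | succ n ih =>
        rw [Subgroup.lowerCentralSeries_succ]
        exact hle.trans (Subgroup.commutator_mono ih le_rfl)
    intro a ha b hb
    refine commutatorElement_eq_one_iff_mul_comm.1 (Subgroup.mem_bot.1 ?_)
    rw [← hn]
    exact hall n (Subgroup.commutator_mem_commutator ha hb)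
  obtain ⟨E, ⟨hEn, hED, hEC, hCE⟩, hmax⟩ := (Set.toFinite {E : Subgroup L | P E}).exists_maximal ⟨_, h0⟩
  -- normal Sylow subgroups of `D`, enlarged by `E`
  have hsyl : ∀ r : ℕ, r.Prime → ∀ R : Sylow r D, C ≤ (R : Subgroup D).map D.subtype ⊔ E ∨
      (R : Subgroup D).map D.subtype ≤ E := by
    intro r hr R
    have := Fact.mk hr
    have hRn : (R : Subgroup D).Normal :=
      ((Group.isNilpotent_of_finite_tfae (G := D)).out 0 3 (a := Group.IsNilpotent D)
        (b := ∀ (p : ℕ) (_ : Fact p.Prime) (P : Sylow p D), (P : Subgroup D).Normal)).1 hnil r ‹_› R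
    have := R.characteristic_of_normal hRn
    have hn : ((R : Subgroup D).map D.subtype).Normal := inferInstance
    by_contra hc
    push Not at hc
    have hle : (R : Subgroup D).map D.subtype ⊔ E ≤ E :=
      hmax (y := (R : Subgroup D).map D.subtype ⊔ E)
        ⟨inferInstance, sup_le (Subgroup.map_subtype_le _) hED, hEC.trans le_sup_right, hc.1⟩ le_sup_right
    exact hc.2 (le_sup_left.trans hle)
  obtain ⟨c, hc, hcE⟩ := SetLike.not_le_iff_exists.1 hCE
  have hpow : ∀ (r : ℕ) (R : Sylow r D), ∀ y ∈ (R : Subgroup D).map D.subtype ⊔ E, ∃ k, y ^ r ^ k ∈ E := by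
    intro r R y hy
    rw [Subgroup.mem_sup_of_normal_right] at hy
    obtain ⟨x, ⟨x', hx', rfl⟩, e, he, rfl⟩ := hy
    obtain ⟨k, hk⟩ := R.isPGroup' ⟨x', hx'⟩
    refine ⟨k, (QuotientGroup.eq_one_iff _).1 ?_⟩
    have h1 : ((x' : L)) ^ r ^ k = 1 := congrArg (fun z : (R : Subgroup D) => ((z : D) : L)) hk
    rw [QuotientGroup.mk_pow, QuotientGroup.mk_mul, (QuotientGroup.eq_one_iff e).2 he, mul_one,
      ← QuotientGroup.mk_pow, show (D.subtype x') ^ r ^ k = 1 from h1, QuotientGroup.mk_one]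
  by_cases hall : ∀ r : ℕ, r.Prime → ∀ R : Sylow r D, (R : Subgroup D).map D.subtype ≤ E
  · exfalso
    refine hCE (hCD.trans fun x hx => ?_)
    have htop : E.subgroupOf D = ⊤ := by
      refine Subgroup.eq_top_of_card_eq _ (Nat.dvd_antisymm (Subgroup.card_subgroup_dvd_card _) ?_)
      refine (Nat.dvd_iff_prime_pow_dvd_dvd _ _).2 fun r k hr hk => ?_
      have := Fact.mk hr
      obtain ⟨R⟩ : Nonempty (Sylow r D) := inferInstance
      have h1 : r ^ k ∣ Nat.card (R : Subgroup D) := by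
        rw [R.card_eq_multiplicity]
        exact pow_dvd_pow r ((hr.pow_dvd_iff_le_factorization Nat.card_pos.ne').1 hk)
      exact h1.trans (Subgroup.card_dvd_of_le fun z hz => hall r hr R ⟨z, hz, rfl⟩)
    exact (htop ▸ Subgroup.mem_top (⟨x, hx⟩ : D) : (⟨x, hx⟩ : D) ∈ E.subgroupOf D)
  push Not at hall
  obtain ⟨p, hp, R, hR⟩ := hall
  refine ⟨E, p, hp, hEn, hED, hEC, hCE, fun d hd => hpow p R d ?_⟩
  have hCR := (hsyl p hp R).resolve_right hR
  have htop : ((R : Subgroup D).map D.subtype ⊔ E).subgroupOf D = ⊤ := by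
    refine Subgroup.eq_top_of_card_eq _ (Nat.dvd_antisymm (Subgroup.card_subgroup_dvd_card _) ?_)
    refine (Nat.dvd_iff_prime_pow_dvd_dvd _ _).2 fun r k hr hk => ?_
    have := Fact.mk hr
    obtain ⟨R'⟩ : Nonempty (Sylow r D) := inferInstance
    have hR' : (R' : Subgroup D).map D.subtype ≤ (R : Subgroup D).map D.subtype ⊔ E := by
      by_cases hrp : r = p
      · subst hrp
        have hRn : (R : Subgroup D).Normal :=
          ((Group.isNilpotent_of_finite_tfae (G := D)).out 0 3 (a := Group.IsNilpotent D)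
            (b := ∀ (p : ℕ) (_ : Fact p.Prime) (P : Sylow p D), (P : Subgroup D).Normal)).1 hnil r ‹_› R
        have := Sylow.unique_of_normal R hRn
        rw [Subsingleton.elim R' R]
        exact le_sup_left
      · rcases hsyl r hr R' with h | h
        · obtain ⟨k₁, hk₁⟩ := hpow p R c (hCR hc)
          obtain ⟨k₂, hk₂⟩ := hpow r R' c (h hc)
          exfalso
          refine hcE ((QuotientGroup.eq_one_iff (N := E) c).1 (orderOf_eq_one_iff.1
            (Nat.eq_one_of_dvd_coprimes (((Nat.coprime_primes hp hr).2 (Ne.symm hrp)).pow k₁ k₂) ?_ ?_)))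
          · exact orderOf_dvd_of_pow_eq_one (by rw [← QuotientGroup.mk_pow]; exact (QuotientGroup.eq_one_iff _).2 hk₁)
          · exact orderOf_dvd_of_pow_eq_one (by rw [← QuotientGroup.mk_pow]; exact (QuotientGroup.eq_one_iff _).2 hk₂)
        · exact h.trans le_sup_right
    have h1 : r ^ k ∣ Nat.card (R' : Subgroup D) := by
      rw [R'.card_eq_multiplicity]
      exact pow_dvd_pow r ((hr.pow_dvd_iff_le_factorization Nat.card_pos.ne').1 hk)
    refine h1.trans (Subgroup.card_dvd_of_le fun z hz => ?_)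
    exact hR' ⟨z, hz, rfl⟩
  exact (htop ▸ Subgroup.mem_top (⟨d, hd⟩ : D) : (⟨d, hd⟩ : D) ∈ ((R : Subgroup D).map D.subtype ⊔ E).subgroupOf D)

/-- The derived subgroup and `E` do not generate. -/
theorem comm_kill (D E : Subgroup L) [E.Normal] [D.Normal] (hC : ⁅⁅D, D⁆, D⁆ ≤ E) (hne : ¬ ⁅D, D⁆ ≤ E) :
    ¬ D ≤ ⁅D, D⁆ ⊔ E := by
  intro hle
  refine hne ?_
  rw [Subgroup.commutator_le]
  intro a ha b hb
  have hz : ∀ x ∈ D, ∀ y ∈ D, Commute ((x : L) : L ⧸ E) ((y : L) : L ⧸ E) := by
    intro x hx y hy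
    have := hle hx
    rw [Subgroup.mem_sup_of_normal_right] at this
    obtain ⟨c, hc, e, he, rfl⟩ := this
    rw [QuotientGroup.mk_mul, (QuotientGroup.eq_one_iff e).2 he, mul_one]
    refine commutatorElement_eq_one_iff_mul_comm.1 ?_
    rw [← QuotientGroup.mk'_apply, ← QuotientGroup.mk'_apply, ← map_commutatorElement]
    exact (QuotientGroup.eq_one_iff _).2 (hC (Subgroup.commutator_mem_commutator hc hy))
  refine (QuotientGroup.eq_one_iff _).1 ?_
  rw [← QuotientGroup.mk'_apply, map_commutatorElement, commutatorElement_eq_one_iff_mul_comm]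
  exact (hz a ha b hb).eq

end CfsgLib.NoDiv
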