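import Cfsg.Agent.Lib.CharBlocks.RelGraph
import Cfsg.Agent.Lib.Char.ThreeDegreesBasic
import Cfsg.Agent.Lib.Char.Integral
import Cfsg.Agent.S0867

/-!
# No divisibility among degrees: a normal `q`-complement with non-abelian quotient

* `exists_deg_ind`: induction from the inertia group realises the degree `|L : T| η(1)`;
* `same_degree_of_nonabelian_quot`: all non-linear degrees are equal.
-/

set_option autoImplicit false

namespace CfsgLib.NoDiv

open CfsgLib.Char CfsgLib.CharNormal CfsgLib.ThreeDeg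

universe u

variable {L : Type u} [Group L] [Fintype L]

/-- An irreducible character of the inertia group over `θ` gives the degree `|L : T| η(1)`. -/
theorem exists_deg_ind (N : Subgroup L) [N.Normal] [Fintype N] {θ : N → ℂ}
    (hθ : Cfsg.IsIrrCharacter N θ) (T : Subgroup L) [Fintype T]
    (hT : ∀ g : L, g ∈ T ↔ conjFun N g θ = θ) (hNT : N ≤ T) {η : T → ℂ}
    (hη : Cfsg.IsIrrCharacter T η)
    (h0 : Cfsg.classInner (fun n : N => η ⟨n, hNT n.2⟩) θ ≠ 0) :
    ∃ χ : L → ℂ, Cfsg.IsIrrCharacter L χ ∧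
      Cfsg.charDegree χ = T.index * Cfsg.charDegree η := by
  classical
  have hTi : T = inertia N θ := Subgroup.ext fun g => (hT g).trans (mem_inertia N).symm
  have hind := isCharacter_indFun T (isCharacter_of_isIrr hη)
  obtain ⟨χ, hχ, hc⟩ := exists_constituent hind fun e => by
    have e1 := congrFun e 1
    rw [indFun_one, Pi.zero_apply, mul_eq_zero, Nat.cast_eq_zero] at e1
    exact e1.elim Subgroup.index_ne_zero_of_finite (irr_one_ne_zero hη)
  have hres : Cfsg.classInner (fun t : T => χ t) η ≠ 0 := fun e => by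
    rw [frobenius_reciprocity T _ (isClassFunction_of_isIrr hχ), ← classInner_conj_symm, e,
      map_zero] at hc
    exact hc rfl
  obtain ⟨m, hm, hmi⟩ := char_decomp (isCharacter_res T (isCharacter_of_isIrr hχ))
  choose k hk using fun φ : Cfsg.IrrCharacter T => classInner_char_nat
    (isCharacter_comp (isCharacter_of_isIrr φ.2) (Subgroup.inclusion hNT))
    (isCharacter_of_isIrr hθ)
  have h3 : Cfsg.classInner (fun n : N => χ n) θ = ((∑ φ, m φ * k φ : ℕ) : ℂ) := by
    have h2 : (fun n : N => χ n) =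
        ∑ φ : Cfsg.IrrCharacter T, (m φ : ℂ) • fun n : N => (φ : T → ℂ) ⟨n, hNT n.2⟩ :=
      funext fun n => by simpa [Finset.sum_apply] using congrFun hm ⟨n, hNT n.2⟩
    rw [h2, classInner_sum_left]
    push_cast
    exact Finset.sum_congr rfl fun φ _ => by rw [classInner_smul_left, ← hk]; rfl
  set φ₀ : Cfsg.IrrCharacter T := ⟨η, hη⟩
  have hm0 : m φ₀ ≠ 0 := fun e => hres (by rw [hmi φ₀, e, Nat.cast_zero])
  have hk0 : Cfsg.classInner (fun n : N => η ⟨n, hNT n.2⟩) θ = k φ₀ := hk φ₀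
  have hkpos : k φ₀ ≠ 0 := fun e => h0 (by rw [hk0, e, Nat.cast_zero])
  have hle1 : k φ₀ ≤ ∑ φ, m φ * k φ :=
    le_trans (Nat.le_mul_of_pos_left _ (Nat.pos_of_ne_zero hm0))
      (Finset.single_le_sum (f := fun φ => m φ * k φ) (fun _ _ => Nat.zero_le _) (Finset.mem_univ φ₀))
  -- the restriction of `η`
  have hη1 : η 1 = (k φ₀ : ℂ) * θ 1 := by
    let N' := N.subgroupOf T
    let eN : N' ≃* N := Subgroup.subgroupOfEquivOfLe hNT
    have := Fintype.ofFinite N'
    have hci : Cfsg.classInner (fun n : N' => η n) (θ ∘ eN) = k φ₀ := by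
      rw [← hk0, ← classInner_comp_mulEquiv eN (fun n : N => η ⟨n, hNT n.2⟩) θ]
      rfl
    have h := res_eq_smul_of_invariant N' hη (isIrr_comp_mulEquiv hθ eN)
      (fun t => funext fun n => congrFun ((hT t).mp t.2) (eN n)) (by rw [hci]; exact_mod_cast hkpos)
    have := congrFun h 1
    rw [hci] at this
    simpa using this
  have hdeg := degree_eq_mul_card_orbit N hχ ⟨θ, hθ⟩ (by
    show Cfsg.classInner (fun n : N => χ n) θ ≠ 0
    rw [h3]
    exact_mod_cast (Nat.lt_of_lt_of_le (Nat.pos_of_ne_zero hkpos) hle1).ne')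
  rw [card_orbit_eq_index N ⟨θ, hθ⟩, ← hTi] at hdeg
  have hle := constituent_degree_le hind hχ hc
  obtain ⟨d, hd0, hd⟩ := exists_degree_pos hθ
  have hχ1 : χ 1 = (((∑ φ, m φ * k φ) * T.index * d : ℕ) : ℂ) := by
    simp only [hdeg, h3, hd]; push_cast; ring
  have hind1 : Cfsg.indFun T η 1 = ((T.index * (k φ₀ * d) : ℕ) : ℂ) := by
    rw [indFun_one, hη1, hd]; push_cast; ring
  rw [hχ1, hind1, Complex.natCast_re, Complex.natCast_re, Nat.cast_le] at hle
  refine ⟨χ, hχ, ?_⟩
  rw [deg_of_cast hχ1, deg_of_cast (χ := η) (d := k φ₀ * d) (by rw [hη1, hd]; push_cast; ring)]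
  refine le_antisymm hle ?_
  rw [mul_assoc, mul_left_comm]
  exact Nat.mul_le_mul_right _ hle1

theorem detOrder_dvd_card {H : Type*} [Group H] [Finite H] {θ : H → ℂ}
    (hθ : Cfsg.IsCharacter H θ) : Cfsg.detOrder θ ∣ Nat.card H := by
  obtain ⟨n, ρ, rfl⟩ := hθ
  rw [Cfsg.detOrder, detChar_eq_detHom, show (fun g => (detHom ρ g : ℂ)) = linFun (detHom ρ) from rfl,
    orderOf_linFun]
  exact orderOf_dvd_of_pow_eq_one (MonoidHom.ext fun g => by
    rw [MonoidHom.pow_apply, ← map_pow, pow_card_eq_one', map_one]; rfl)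

/-- A normal `q`-complement with non-abelian quotient: the non-linear degrees are equal. -/
theorem same_degree_of_nonabelian_quot (M : Subgroup L) [M.Normal] {q k : ℕ} (hq : q.Prime)
    (hMq : (Nat.card M).Coprime q) (hk : M.index = q ^ k)
    (anti : ∀ ψ φ : L → ℂ, Cfsg.IsIrrCharacter L ψ → Cfsg.IsIrrCharacter L φ →
      Cfsg.charDegree ψ ≠ 1 → Cfsg.charDegree φ ≠ 1 → Cfsg.charDegree ψ ∣ Cfsg.charDegree φ →
      Cfsg.charDegree ψ = Cfsg.charDegree φ)
    (hna : ¬ commutator L ≤ M) {ψ φ : L → ℂ} (hψ : Cfsg.IsIrrCharacter L ψ)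
    (hφ : Cfsg.IsIrrCharacter L φ) (hψ1 : Cfsg.charDegree ψ ≠ 1)
    (hφ1 : Cfsg.charDegree φ ≠ 1) : Cfsg.charDegree ψ = Cfsg.charDegree φ := by
  classical
  have := Fintype.ofFinite M
  have := Fintype.ofFinite (L ⧸ M)
  obtain ⟨β₀, hβ₀⟩ : ∃ β : Cfsg.IrrCharacter (L ⧸ M), (β : L ⧸ M → ℂ) 1 ≠ 1 := by
    by_contra h
    push Not at h
    refine hna ?_
    rw [commutator_def, Subgroup.commutator_le]
    intro a _ b _
    rw [← QuotientGroup.eq_one_iff]
    have := commutatorElement_eq_one_iff_mul_comm.2 (comm_iff_forall_linear.2 h (a : L ⧸ M) (b : L ⧸ M))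
    rw [commutatorElement_def] at this ⊢
    simpa using this
  set b := Cfsg.charDegree (β₀ : L ⧸ M → ℂ) with hb
  have hb1 : b ≠ 1 := fun e => hβ₀ (by rw [deg_cast β₀.2, ← hb, e, Nat.cast_one])
  set β : L → ℂ := (β₀ : L ⧸ M → ℂ) ∘ QuotientGroup.mk with hβdef
  have hβ : Cfsg.IsIrrCharacter L β := isIrr_comp_mk' M β₀.2
  have hβd : Cfsg.charDegree β = b := deg_of_eq (by simp [hβdef])
  obtain ⟨a, -, hba⟩ := (Nat.dvd_prime_pow hq).1
    (show b ∣ q ^ k by rw [← hk, Subgroup.index_eq_card]; exact degree_dvd_card β₀.2 (deg_cast β₀.2))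
  have key : ∀ χ : L → ℂ, Cfsg.IsIrrCharacter L χ → Cfsg.charDegree χ ≠ 1 →
      Cfsg.charDegree χ = b := by
    intro χ hχ hχ1
    obtain ⟨θ, hθ, h0⟩ := exists_under M hχ
    set T := inertia M θ with hTdef
    have hMT : M ≤ T := le_inertia M (isClassFunction_of_isIrr hθ)
    have := Fintype.ofFinite T
    obtain ⟨η, hη, hind, hη0⟩ := clifford_correspondence M hθ T (fun g => mem_inertia M) hMT hχ h0
    have hχd : Cfsg.charDegree χ = T.index * Cfsg.charDegree η := deg_of_cast (by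
      rw [← hind, indFun_one, deg_cast hη]; push_cast; rfl)
    set M' := M.subgroupOf T with hM'def
    have : M'.Normal := Subgroup.Normal.subgroupOf ‹M.Normal› T
    have := Fintype.ofFinite M'
    have := Fintype.ofFinite (T ⧸ M')
    have hM'idx : M'.index * T.index = M.index := Subgroup.relIndex_mul_index hMT
    by_cases hab : ∀ x y : T ⧸ M', x * y = y * x
    · -- abelian inertia quotient
      have hle : b ≤ T.index := by
        have h1 := degree_le_index_of_comm β₀.2 (T.map (QuotientGroup.mk' M)) (by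
          rintro _ ⟨x, hx, rfl⟩ _ ⟨y, hy, rfl⟩
          have := hab (⟨x, hx⟩ : T) (⟨y, hy⟩ : T)
          rw [← QuotientGroup.mk_mul, ← QuotientGroup.mk_mul, QuotientGroup.eq] at this
          rw [QuotientGroup.mk'_apply, QuotientGroup.mk'_apply, ← QuotientGroup.mk_mul,
            ← QuotientGroup.mk_mul, QuotientGroup.eq]
          exact this)
        rw [deg_cast β₀.2, ← hb, Complex.natCast_re, Nat.cast_le,
          Subgroup.index_map_eq _ (QuotientGroup.mk'_surjective M)
            (by rw [QuotientGroup.ker_mk']; exact hMT)] at h1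
        exact h1
      obtain ⟨c, -, hc⟩ := (Nat.dvd_prime_pow hq).1 (hk ▸ hM'idx ▸ Dvd.intro_left _ rfl :
        T.index ∣ q ^ k)
      have hdvd : b ∣ Cfsg.charDegree χ := by
        refine (Nat.dvd_trans ?_ (hχd ▸ Dvd.intro _ rfl))
        rw [hc, hba] at hle ⊢
        exact Nat.pow_dvd_pow _ ((Nat.pow_le_pow_iff_right hq.one_lt).1 hle)
      exact (hβd ▸ anti β χ hβ hχ (hβd ▸ hb1) hχ1 (hβd ▸ hdvd)).symm
    · -- non-abelian inertia quotient: `θ` extends
      obtain ⟨t, ht⟩ : ∃ β : Cfsg.IrrCharacter (T ⧸ M'), (β : T ⧸ M' → ℂ) 1 ≠ 1 := by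
        by_contra h
        push Not at h
        exact hab (comm_iff_forall_linear.2 h)
      set eN : M' ≃* M := Subgroup.subgroupOfEquivOfLe hMT
      have hθ' : Cfsg.IsIrrCharacter M' (θ ∘ eN) := isIrr_comp_mulEquiv hθ eN
      have hcopM : M'.index.Coprime (Nat.card M') := by
        refine Nat.Coprime.coprime_dvd_left (hM'idx ▸ Dvd.intro _ rfl : M'.index ∣ M.index) ?_
        rw [hk, Nat.card_congr eN.toEquiv]
        exact hMq.symm.pow_left k
      obtain ⟨χ₀, ⟨hχ₀, hχ₀M, -⟩, -⟩ := Cfsg.Agent.S0867.result M' (θ ∘ eN) hθ'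
        (fun g n => congrFun ((mem_inertia M).1 g.2) (eN n)) _ (deg_cast hθ')
        (Nat.Coprime.mul_right (hcopM.coprime_dvd_right (detOrder_dvd_card (isCharacter_of_isIrr hθ')))
          (hcopM.coprime_dvd_right (degree_dvd_card hθ' (deg_cast hθ'))))
      have hres₀ : Cfsg.IsIrrCharacter M' (fun n : M' => χ₀ n) := by
        rw [show (fun n : M' => χ₀ n) = θ ∘ eN from funext hχ₀M]; exact hθ'
      have hχ₀d : Cfsg.charDegree χ₀ = Cfsg.charDegree θ := deg_of_eq (by
        have := hχ₀M 1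
        simpa using this)
      -- two degrees
      have hover : ∀ γ : T ⧸ M' → ℂ, Cfsg.IsIrrCharacter (T ⧸ M') γ → ∃ ξ : L → ℂ,
          Cfsg.IsIrrCharacter L ξ ∧ Cfsg.charDegree ξ =
            T.index * (Cfsg.charDegree θ * Cfsg.charDegree γ) := by
        intro γ hγ
        have hirr := isIrr_mul_comp_mk' M' (isCharacter_of_isIrr hχ₀) hres₀ hγ
        have hres : (fun n : M => (χ₀ * (γ ∘ QuotientGroup.mk)) ⟨n, hMT n.2⟩) = (γ 1) • θ := by
          funext n
          have h1 := hχ₀M ⟨⟨n, hMT n.2⟩, n.2⟩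
          have h2 : ((⟨n, hMT n.2⟩ : T) : T ⧸ M') = 1 := (QuotientGroup.eq_one_iff _).2 n.2
          rw [Pi.mul_apply, Function.comp_apply, h2, h1, Pi.smul_apply, smul_eq_mul, mul_comm]
          rfl
        obtain ⟨ξ, hξ, hξd⟩ := exists_deg_ind M hθ T (fun g => mem_inertia M) hMT hirr (by
          rw [hres, classInner_smul_left, classInner_irr_self hθ, mul_one]
          exact irr_one_ne_zero hγ)
        refine ⟨ξ, hξ, hξd.trans ?_⟩
        rw [← hχ₀d]
        congr 1
        exact deg_of_cast (by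
          rw [Pi.mul_apply, apply_comp_mk'_one, deg_cast hχ₀, deg_cast hγ]; push_cast; rfl)
      obtain ⟨ξ₁, hξ₁, hd₁⟩ := hover (fun _ => 1) isIrrCharacter_one
      obtain ⟨ξ₂, hξ₂, hd₂⟩ := hover t t.2
      rw [deg_of_cast (χ := fun _ : T ⧸ M' => (1 : ℂ)) (d := 1) (by simp), mul_one] at hd₁
      set d₁ := T.index * Cfsg.charDegree θ with hd₁def
      have htd : Cfsg.charDegree (t : T ⧸ M' → ℂ) ≠ 1 := fun e => ht (by
        rw [deg_cast t.2, e, Nat.cast_one])
      rw [← mul_assoc, ← hd₁def] at hd₂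
      have hd1 : d₁ = 1 := by
        by_contra hne
        have h2 : Cfsg.charDegree ξ₂ ≠ 1 := by
          rw [hd₂]; exact fun e => hne (Nat.eq_one_of_mul_eq_one_right e)
        have h3 := anti ξ₁ ξ₂ hξ₁ hξ₂ (hd₁ ▸ hne) h2 (by rw [hd₁, hd₂]; exact Dvd.intro _ rfl)
        rw [hd₁, hd₂] at h3
        have := deg_pos hξ₁
        rw [hd₁] at this
        exact htd ((mul_eq_left₀ this.ne').1 h3.symm)
      -- `χ` has `q`-power degree
      have hnz : Cfsg.classInner (fun n : M' => η n) (fun n : M' => χ₀ n) ≠ 0 := by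
        rw [show (fun n : M' => χ₀ n) = θ ∘ eN from funext hχ₀M]
        have : Cfsg.classInner (fun n : M' => η n) (θ ∘ eN) =
            Cfsg.classInner (fun n : M => η ⟨n, hMT n.2⟩) θ := by
          rw [← classInner_comp_mulEquiv eN (fun n : M => η ⟨n, hMT n.2⟩) θ]
          rfl
        rw [this, hη0]
        exact h0
      obtain ⟨γ, hγ, hηe⟩ := exists_eq_mul_comp_mk' M' (isCharacter_of_isIrr hχ₀) hres₀ hη hnz
      have hηd : Cfsg.charDegree η = Cfsg.charDegree θ * Cfsg.charDegree γ := deg_of_cast (by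
        rw [hηe, Pi.mul_apply, apply_comp_mk'_one, deg_cast hχ₀, deg_cast hγ, hχ₀d]; push_cast; rfl)
      rw [hηd, ← mul_assoc, ← hd₁def, hd1, one_mul] at hχd
      have hγdvd : Cfsg.charDegree χ ∣ q ^ k := by
        rw [hχd, ← hk, ← hM'idx, Subgroup.index_eq_card M']
        exact Dvd.dvd.mul_right (degree_dvd_card hγ (deg_cast hγ)) _
      obtain ⟨c, -, hc⟩ := (Nat.dvd_prime_pow hq).1 hγdvd
      rcases le_total a c with h | h
      · refine (hβd ▸ anti β χ hβ hχ (hβd ▸ hb1) hχ1 ?_).symm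
        rw [hβd, hba, hc]
        exact Nat.pow_dvd_pow _ h
      · refine hβd ▸ anti χ β hχ hβ hχ1 (hβd ▸ hb1) ?_
        rw [hβd, hba, hc]
        exact Nat.pow_dvd_pow _ h
  rw [key ψ hψ hψ1, key φ hφ hφ1]

end CfsgLib.NoDiv
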