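import Cfsg.Agent.Lib.CharBlocks.NoDiv.AbelianMain
import Cfsg.Agent.Lib.CharBlocks.NoDiv.NonabelianQuot
import Cfsg.Agent.Lib.Char.ThreeDegreesSolvable
import Cfsg.Prelude.Def_DegreeGraph
import Cfsg.Agent.S4456

/-!
# No divisibility among degrees and a disconnected degree graph: three degrees

* `reachable_of_dvd`, `absurd_of_hub`: connectedness of the degree graph;
* `same_degree`: the non-linear degrees of the kernel coincide;
* `exists_three`: the degrees are `1`, `f`, `e`.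
-/

set_option autoImplicit false

namespace CfsgLib.NoDiv

open CfsgLib.Char CfsgLib.ThreeDeg
open CfsgLib.CharNormal hiding stab mem_stab

universe u

variable {G : Type u} [Group G]

theorem reachable_of_dvd {r s : ↥(Cfsg.degreePrimes G)} {d : ℕ} (hd : d ∈ Cfsg.charDegrees G)
    (hr : (r : ℕ) ∣ d) (hs : (s : ℕ) ∣ d) :
    ((Cfsg.degreeGraph G).induce (Cfsg.degreePrimes G)).Reachable r s := by
  by_cases h : r = s
  · rw [h]
  · refine SimpleGraph.Adj.reachable ⟨fun e => h (Subtype.ext e), r.2.1, s.2.1, d, hd, ?_⟩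
    exact ((Nat.coprime_primes r.2.1 s.2.1).2 fun e => h (Subtype.ext e)).mul_dvd_of_dvd_of_dvd hr hs

theorem absurd_of_hub
    (htwo : Nat.card ((Cfsg.degreeGraph G).induce (Cfsg.degreePrimes G)).ConnectedComponent = 2)
    (h : ∀ r s : ↥(Cfsg.degreePrimes G),
      ((Cfsg.degreeGraph G).induce (Cfsg.degreePrimes G)).Reachable r s) : False := by
  have : Subsingleton ((Cfsg.degreeGraph G).induce (Cfsg.degreePrimes G)).ConnectedComponent :=
    SimpleGraph.Preconnected.subsingleton_connectedComponent h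
  have h1 := Finite.card_le_one_iff_subsingleton.2 this
  omega

/-- Conjugation by `g ∉ N` puts the kernel into the abelian setting, unless a `q`-complement has
non-abelian quotient; either way the non-linear degrees of `N` coincide. -/
theorem same_degree [Finite G] {q : ℕ} (hq : q.Prime) (K N : Subgroup G) [K.Normal] [N.Normal]
    [Fintype N] (hKN : K ≤ N) (hne : K ≠ N)
    (hNab : ∀ a ∈ N, ∀ b ∈ N, a * b * a⁻¹ * b⁻¹ ∈ K)
    (hNq : ∃ i, (K.subgroupOf N).index = q ^ i)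
    (hfree : ∀ s : G, s ∉ N → ∀ n ∈ N, ∃ x ∈ N, n⁻¹ * (s * x * s⁻¹ * x⁻¹) ∈ K)
    (hf1 : N.index ≠ 1) (hqf : ¬ q ∣ N.index)
    (anti : ∀ ψ φ : N → ℂ, Cfsg.IsIrrCharacter N ψ → Cfsg.IsIrrCharacter N φ →
      Cfsg.charDegree ψ ≠ 1 → Cfsg.charDegree φ ≠ 1 → Cfsg.charDegree ψ ∣ Cfsg.charDegree φ →
      Cfsg.charDegree ψ = Cfsg.charDegree φ)
    (hcop : ∀ ψ : N → ℂ, Cfsg.IsIrrCharacter N ψ → Cfsg.charDegree ψ ≠ 1 →
      N.index.Coprime (Cfsg.charDegree ψ))
    (hinv : ∀ ψ : N → ℂ, Cfsg.IsIrrCharacter N ψ → Cfsg.charDegree ψ ≠ 1 →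
      ∀ g : G, conjFun N g ψ = ψ)
    (hqdvd : ∀ ψ : N → ℂ, Cfsg.IsIrrCharacter N ψ → Cfsg.charDegree ψ ≠ 1 →
      q ∣ Cfsg.charDegree ψ)
    {ψ φ : N → ℂ} (hψ : Cfsg.IsIrrCharacter N ψ) (hφ : Cfsg.IsIrrCharacter N φ)
    (hψ1 : Cfsg.charDegree ψ ≠ 1) (hφ1 : Cfsg.charDegree φ ≠ 1) :
    Cfsg.charDegree ψ = Cfsg.charDegree φ := by
  classical
  obtain ⟨M, hM, hMq, k, hk⟩ := Cfsg.Agent.S4456.result (G := N) q hq fun χ h => hqdvd χ χ.2 h
  by_cases hle : commutator N ≤ M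
  swap
  · exact same_degree_of_nonabelian_quot M hq hMq hk anti hle hψ hφ hψ1 hφ1
  obtain ⟨g, hg⟩ : ∃ g : G, g ∉ N := by
    by_contra h
    push Not at h
    exact hf1 (Subgroup.index_eq_one.2 (eq_top_iff.2 fun x _ => h x))
  set σ : MulAut N := MulAut.conjNormal g with hσ
  have hiter : ∀ (n : ℕ) (x : N), ((σ^[n] x : N) : G) = g ^ n * x * (g ^ n)⁻¹ := by
    intro n
    induction n with
    | zero => intro x; simp
    | succ n ih =>
      intro x
      rw [Function.iterate_succ_apply', hσ, MulAut.conjNormal_apply, ← hσ, ih, pow_succ']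
      group
  have hKder : commutator N ≤ K.subgroupOf N := by
    rw [commutator_def, Subgroup.commutator_le]
    intro a _ b _
    exact hNab a a.2 b b.2
  -- a moved `q`-element
  obtain ⟨n, hnN, hnK⟩ := SetLike.exists_of_lt (lt_of_le_of_ne hKN hne)
  obtain ⟨x, hx, hxK⟩ := hfree g hg n hnN
  set K' := K.subgroupOf N with hK'
  have : K'.Normal := Subgroup.Normal.subgroupOf ‹K.Normal› N
  set x' : N := ⟨x, hx⟩ with hx'
  have hmove : σ x' * x'⁻¹ ∉ K' := by
    intro h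
    have h' : g * x * g⁻¹ * x⁻¹ ∈ K := h
    have := K.mul_mem h' (K.inv_mem hxK)
    rw [mul_inv_rev, inv_inv, mul_inv_cancel_left] at this
    exact hnK this
  obtain ⟨i, hi⟩ := hNq
  obtain ⟨a, o, ho, hord⟩ : ∃ a o : ℕ, ¬ q ∣ o ∧ orderOf x' = q ^ a * o :=
    ⟨_, _, Nat.not_dvd_ordCompl hq (orderOf_pos x').ne', (Nat.ordProj_mul_ordCompl_eq_self _ q).symm⟩
  obtain ⟨t, ht1, ht2⟩ := Nat.chineseRemainder
    (((Nat.Prime.coprime_iff_not_dvd hq).2 ho).pow_left i) 1 0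
  have hmoved : ∃ y : N, ∃ k : ℕ, y ^ q ^ k = 1 ∧ σ y * y⁻¹ ∉ commutator N := by
    refine ⟨x' ^ t, a, ?_, fun h => hmove ?_⟩
    · rw [← pow_mul, ← orderOf_dvd_iff_pow_eq_one, hord, mul_comm (q ^ a)]
      exact Nat.mul_dvd_mul_right (Nat.modEq_zero_iff_dvd.1 ht2) _
    · have h1 := hKder h
      rw [map_pow, ← div_eq_mul_inv, ← QuotientGroup.eq_iff_div_mem, QuotientGroup.mk_pow,
        QuotientGroup.mk_pow] at h1
      have hpow : ∀ z : N ⧸ K', z ^ t = z := fun z => by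
        conv_rhs => rw [← pow_one z]
        refine pow_eq_pow_iff_modEq.2 (ht1.of_dvd ?_)
        rw [← hi, Subgroup.index_eq_card]
        exact orderOf_dvd_natCard z
      rw [hpow, hpow, QuotientGroup.eq_iff_div_mem, div_eq_mul_inv] at h1
      exact h1
  have hset : Setting N σ N.index q :=
    { prime := hq
      fcop := hqf
      derived := fun h => hq.ne_one (Nat.eq_one_of_dvd_coprimes hMq
        (h.trans (Subgroup.card_dvd_of_le hle)) dvd_rfl)
      anti := anti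
      inv := fun χ hχ h1 y => congrFun (hinv χ hχ h1 g) y
      cop := hcop
      period := ⟨⟨g ^ N.index, N.pow_index_mem g⟩, fun y => Subtype.ext (hiter _ y)⟩
      moved := hmoved }
  exact hset.same_degree hψ hφ hψ1 hφ1

/-- The degrees are `1`, `f`, `e`. -/
theorem exists_three [Finite G] [Group.IsSolvable G]
    (hnd : ∀ a ∈ Cfsg.charDegrees G, ∀ b ∈ Cfsg.charDegrees G, 1 < a → a < b → ¬ a ∣ b)
    (htwo : Nat.card ((Cfsg.degreeGraph G).induce (Cfsg.degreePrimes G)).ConnectedComponent = 2) :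
    ∃ f e : ℕ, f ≠ 1 ∧ e ≠ 1 ∧ f ≠ e ∧ Cfsg.charDegrees G = {1, f, e} := by
  classical
  have := Fintype.ofFinite G
  have anti : ∀ χ ξ : G → ℂ, Cfsg.IsIrrCharacter G χ → Cfsg.IsIrrCharacter G ξ →
      Cfsg.charDegree χ ≠ 1 → Cfsg.charDegree χ ∣ Cfsg.charDegree ξ →
      Cfsg.charDegree χ = Cfsg.charDegree ξ := by
    intro χ ξ hχ hξ h1 hdvd
    refine (Nat.le_of_dvd (deg_pos hξ) hdvd).eq_or_lt.resolve_right fun hlt => ?_
    have := deg_pos hχ
    exact hnd _ ⟨⟨χ, hχ⟩, rfl⟩ _ ⟨⟨ξ, hξ⟩, rfl⟩ (show 1 < Cfsg.charDegree χ by omega) hlt hdvd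
  have hnon : ∃ χ : G → ℂ, Cfsg.IsIrrCharacter G χ ∧ Cfsg.charDegree χ ≠ 1 := by
    by_contra h
    push Not at h
    refine absurd_of_hub htwo fun r _ => ?_
    obtain ⟨hr, d, ⟨χ, rfl⟩, hd⟩ := r.2
    rw [h χ χ.2] at hd
    exact absurd (Nat.dvd_one.1 hd) hr.ne_one
  -- a prime dividing every non-linear degree is absurd
  have hall : ∀ p : ℕ, p.Prime → (∀ χ : G → ℂ, Cfsg.IsIrrCharacter G χ → Cfsg.charDegree χ ≠ 1 →
      p ∣ Cfsg.charDegree χ) → False := by
    intro p hp h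
    obtain ⟨χ₀, hχ₀, hd₀⟩ := hnon
    have hpP : p ∈ Cfsg.degreePrimes G := ⟨hp, _, ⟨⟨χ₀, hχ₀⟩, rfl⟩, h χ₀ hχ₀ hd₀⟩
    have hto : ∀ r : ↥(Cfsg.degreePrimes G),
        ((Cfsg.degreeGraph G).induce (Cfsg.degreePrimes G)).Reachable r ⟨p, hpP⟩ := by
      intro r
      obtain ⟨hr, d, ⟨χ, rfl⟩, hd⟩ := r.2
      refine reachable_of_dvd ⟨χ, rfl⟩ hd (h χ χ.2 fun e => ?_)
      exact hr.ne_one (Nat.dvd_one.1 (e ▸ hd))
    exact absurd_of_hub htwo fun r s => (hto r).trans (hto s).symm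
  -- a normal subgroup maximal with non-abelian quotient
  let P : Subgroup G → Prop := fun K => K.Normal ∧ ¬ commutator G ≤ K
  have hP : P ⊥ := by
    refine ⟨inferInstance, fun h => ?_⟩
    obtain ⟨χ, hχ, hd⟩ := hnon
    have hc : ∀ a b : G, a * b = b * a := fun a b => by
      rw [← commutatorElement_eq_one_iff_mul_comm, ← Subgroup.mem_bot]
      refine h ?_
      rw [commutator_def]
      exact Subgroup.commutator_mem_commutator (Subgroup.mem_top a) (Subgroup.mem_top b)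
    exact hd (deg_of_cast (d := 1) (by rw [irr_one_eq_one_of_comm hc hχ, Nat.cast_one]))
  obtain ⟨K, hK, hKmax⟩ := (Set.toFinite {K : Subgroup G | P K}).exists_maximal ⟨⊥, hP⟩
  have := hK.1
  have hπ : Function.Surjective (QuotientGroup.mk' K) := QuotientGroup.mk'_surjective K
  have hmap : commutator (G ⧸ K) = (commutator G).map (QuotientGroup.mk' K) := by
    rw [commutator_def, commutator_def, Subgroup.map_commutator,
      Subgroup.map_top_of_surjective _ hπ]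
  have hna : ∃ a b : G ⧸ K, a * b ≠ b * a := by
    by_contra h
    push Not at h
    refine hK.2 ?_
    rw [commutator_def, Subgroup.commutator_le]
    intro a _ b _
    rw [← QuotientGroup.eq_one_iff]
    have := commutatorElement_eq_one_iff_mul_comm.2 (h (a : G ⧸ K) (b : G ⧸ K))
    rw [commutatorElement_def] at this ⊢
    simpa using this
  have hmin : ∀ M : Subgroup (G ⧸ K), M.Normal → M ≠ ⊥ → commutator (G ⧸ K) ≤ M := by
    intro M hM hMne
    rw [hmap, Subgroup.map_le_iff_le_comap]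
    by_contra h
    have hle : K ≤ M.comap (QuotientGroup.mk' K) := fun k hk => by
      rw [Subgroup.mem_comap, QuotientGroup.mk'_apply, (QuotientGroup.eq_one_iff k).2 hk]
      exact one_mem M
    have := hKmax (y := M.comap (QuotientGroup.mk' K)) ⟨hM.comap _, h⟩ hle
    refine hMne (eq_bot_iff.2 fun x hx => ?_)
    obtain ⟨g, rfl⟩ := hπ x
    exact Subgroup.mem_bot.2 ((QuotientGroup.eq_one_iff g).2 (this hx))
  have := Fintype.ofFinite K
  rcases frob_structure hna hmin with ⟨p, hp, hpL⟩ | ⟨q, hq, hAq, hAne, hAc, hidx1, hqidx, hfr⟩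
  · -- a `p`-group quotient is impossible
    exfalso
    have := Fact.mk hp
    obtain ⟨k, hk⟩ := IsPGroup.iff_card.1 hpL
    have := Fintype.ofFinite (G ⧸ K)
    obtain ⟨β, hβ⟩ : ∃ β : Cfsg.IrrCharacter (G ⧸ K), (β : G ⧸ K → ℂ) 1 ≠ 1 := by
      by_contra h
      push Not at h
      obtain ⟨a, b, hab⟩ := hna
      exact hab (comm_iff_forall_linear.2 h a b)
    have hb1 : Cfsg.charDegree (β : G ⧸ K → ℂ) ≠ 1 := fun e => hβ (by
      rw [deg_cast β.2, e, Nat.cast_one])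
    refine hall p hp fun χ hχ hχ1 => ?_
    by_contra hpd
    have hres : Cfsg.IsIrrCharacter K (fun x : K => χ x) := by
      refine isIrr_res_coprime K hχ ?_
      rw [Subgroup.index_eq_card, hk]
      exact (((Nat.Prime.coprime_iff_not_dvd hp).2 hpd).pow_left k).symm
    have hirr := isIrr_mul_comp_mk' K (isCharacter_of_isIrr hχ) hres β.2
    have hdeg := deg_of_cast (χ := χ * ((β : G ⧸ K → ℂ) ∘ QuotientGroup.mk))
      (d := Cfsg.charDegree χ * Cfsg.charDegree (β : G ⧸ K → ℂ)) (by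
      rw [Pi.mul_apply, apply_comp_mk'_one, deg_cast hχ, deg_cast β.2]
      push_cast
      rfl)
    have h1 := anti χ _ hχ hirr hχ1 (by rw [hdeg]; exact Dvd.intro _ rfl)
    rw [hdeg] at h1
    exact hb1 ((mul_eq_left₀ (deg_pos hχ).ne').1 h1.symm)
  · have := Fact.mk hq
    set N := (commutator (G ⧸ K)).comap (QuotientGroup.mk' K) with hN
    have : N.Normal := (inferInstance : (commutator (G ⧸ K)).Normal).comap _
    have hKN : K ≤ N := fun k hk => by
      rw [hN, Subgroup.mem_comap, QuotientGroup.mk'_apply, (QuotientGroup.eq_one_iff k).2 hk]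
      exact one_mem _
    have := Fintype.ofFinite N
    have hab : ∀ g h : G, g * h * g⁻¹ * h⁻¹ ∈ N := fun g h => by
      rw [hN, Subgroup.mem_comap, commutator_def]
      simp only [map_mul, map_inv]
      exact Subgroup.commutator_mem_commutator (Subgroup.mem_top _) (Subgroup.mem_top _)
    have hNab : ∀ a ∈ N, ∀ b ∈ N, a * b * a⁻¹ * b⁻¹ ∈ K := fun a ha b hb => by
      rw [← QuotientGroup.eq_one_iff]
      have := hAc _ ha _ hb
      simp only [QuotientGroup.mk'_apply] at this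
      simp [this]
    have hne : K ≠ N := by
      intro e
      apply hAne
      rw [eq_bot_iff]
      intro x hx
      obtain ⟨g, rfl⟩ := hπ x
      exact Subgroup.mem_bot.2 ((QuotientGroup.eq_one_iff g).2 (e.ge hx))
    have hKidx : (K.subgroupOf N).index = Nat.card (commutator (G ⧸ K)) := by
      have h1 := Subgroup.relIndex_mul_index hKN
      rw [show N.index = (commutator (G ⧸ K)).index from
        Subgroup.index_comap_of_surjective _ hπ, Subgroup.index_eq_card K,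
        ← (commutator (G ⧸ K)).card_mul_index] at h1
      exact Nat.eq_of_mul_eq_mul_right (Nat.pos_of_ne_zero Subgroup.index_ne_zero_of_finite) h1
    have hNidx : N.index = (commutator (G ⧸ K)).index :=
      Subgroup.index_comap_of_surjective _ hπ
    have hfree : ∀ s : G, s ∉ N → ∀ n ∈ N, ∃ x ∈ N, n⁻¹ * (s * x * s⁻¹ * x⁻¹) ∈ K := by
      intro s hs a ha
      obtain ⟨x, hx, he⟩ := hfr (QuotientGroup.mk' K s) hs _ ha
      obtain ⟨y, rfl⟩ := hπ x
      refine ⟨y, hx, ?_⟩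
      rw [← QuotientGroup.eq_one_iff]
      simp only [QuotientGroup.mk'_apply] at he
      simp [he]
    have hNq : ∃ i, (K.subgroupOf N).index = q ^ i := hKidx ▸ IsPGroup.iff_card.1 hAq
    set f := N.index with hf
    have hf1 : f ≠ 1 := hNidx ▸ hidx1
    have hqf : ¬ q ∣ f := hNidx ▸ hqidx
    -- `f` is a degree
    obtain ⟨χf, hχf, hχfd⟩ := frob_degree K N hKN hne hab hNab hNq hfree isIrrCharacter_one (by
      rw [deg_of_cast (χ := fun _ : N => (1 : ℂ)) (d := 1) (by simp)]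
      exact hq.not_dvd_one)
    rw [deg_of_cast (χ := fun _ : N => (1 : ℂ)) (d := 1) (by simp), mul_one] at hχfd
    have hfrob : ∀ ψ : N → ℂ, Cfsg.IsIrrCharacter N ψ → ¬ q ∣ Cfsg.charDegree ψ →
        Cfsg.charDegree ψ = 1 := by
      intro ψ hψ hd
      obtain ⟨ξ, hξ, hξd⟩ := frob_degree K N hKN hne hab hNab hNq hfree hψ hd
      have h1 := anti χf ξ hχf hξ (hχfd ▸ hf1) (by rw [hχfd, hξd]; exact Dvd.intro _ rfl)
      rw [hχfd, hξd] at h1
      exact (mul_eq_left₀ (Subgroup.index_ne_zero_of_finite (H := N))).1 h1.symm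
    have hsplit : ∀ χ : G → ℂ, Cfsg.IsIrrCharacter G χ → Cfsg.charDegree χ ≠ 1 →
        Cfsg.charDegree χ ≠ f → q ∣ Cfsg.charDegree χ := by
      intro χ hχ h1 hne'
      by_contra hqd
      obtain ⟨ψ, hψ, h0⟩ := exists_under N hχ
      obtain ⟨hdvd, hdiv⟩ := deg_dvd_of_over N hχ hψ h0
      have hψ1 := hfrob ψ hψ fun hd => hqd (hd.trans hdvd)
      rw [hψ1, Nat.div_one] at hdiv
      exact hne' ((anti χ χf hχ hχf h1 (hχfd ▸ hdiv)).trans hχfd)
    -- disconnectedness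
    obtain ⟨χe, hχe, he1, hef⟩ : ∃ χ : G → ℂ, Cfsg.IsIrrCharacter G χ ∧
        Cfsg.charDegree χ ≠ 1 ∧ Cfsg.charDegree χ ≠ f := by
      by_contra h
      push Not at h
      obtain ⟨p, hp, hpf⟩ := Nat.exists_prime_and_dvd hf1
      exact hall p hp fun χ hχ h1 => h χ hχ h1 ▸ hpf
    have hcop : ∀ χ : G → ℂ, Cfsg.IsIrrCharacter G χ → Cfsg.charDegree χ ≠ 1 →
        Cfsg.charDegree χ ≠ f → f.Coprime (Cfsg.charDegree χ) := by
      intro χ hχ h1 hne'
      by_contra hnc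
      obtain ⟨r, hr, hrf, hrd⟩ := Nat.Prime.not_coprime_iff_dvd.1 hnc
      have hqd := hsplit χ hχ h1 hne'
      have hrP : r ∈ Cfsg.degreePrimes G := ⟨hr, _, ⟨⟨χ, hχ⟩, rfl⟩, hrd⟩
      have hqP : q ∈ Cfsg.degreePrimes G := ⟨hq, _, ⟨⟨χ, hχ⟩, rfl⟩, hqd⟩
      have hto : ∀ s : ↥(Cfsg.degreePrimes G),
          ((Cfsg.degreeGraph G).induce (Cfsg.degreePrimes G)).Reachable s ⟨q, hqP⟩ := by
        intro s
        obtain ⟨hs, d, ⟨ξ, rfl⟩, hd⟩ := s.2
        by_cases hξf : Cfsg.charDegree (ξ : G → ℂ) = f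
        · exact (reachable_of_dvd (s := ⟨r, hrP⟩) ⟨ξ, rfl⟩ hd (hξf ▸ hrf)).trans
            (reachable_of_dvd (r := ⟨r, hrP⟩) (s := ⟨q, hqP⟩) ⟨⟨χ, hχ⟩, rfl⟩ hrd hqd)
        · exact reachable_of_dvd ⟨ξ, rfl⟩ hd
            (hsplit ξ ξ.2 (fun e => hs.ne_one (Nat.dvd_one.1 (e ▸ hd))) hξf)
      exact absurd_of_hub htwo fun a b => (hto a).trans (hto b).symm
    -- the characters of `N`
    have hNfacts : ∀ ψ : N → ℂ, Cfsg.IsIrrCharacter N ψ → Cfsg.charDegree ψ ≠ 1 →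
        q ∣ Cfsg.charDegree ψ ∧ f.Coprime (Cfsg.charDegree ψ) ∧ (∀ g : G, conjFun N g ψ = ψ) ∧
          ∃ χ : G → ℂ, Cfsg.IsIrrCharacter G χ ∧ Cfsg.charDegree χ = Cfsg.charDegree ψ := by
      intro ψ hψ hψ1
      have hqψ : q ∣ Cfsg.charDegree ψ := by_contra fun h => hψ1 (hfrob ψ hψ h)
      obtain ⟨χ, h0⟩ := exists_irr_over (G := G) N hψ
      obtain ⟨hdvd, hdiv⟩ := deg_dvd_of_over N χ.2 hψ h0
      have hχ1 : Cfsg.charDegree (χ : G → ℂ) ≠ 1 := fun e => hψ1 (Nat.dvd_one.1 (e ▸ hdvd))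
      have hχf' : Cfsg.charDegree (χ : G → ℂ) ≠ f := fun e => hqf (e ▸ hqψ.trans hdvd)
      have hc := hcop χ χ.2 hχ1 hχf'
      have heq : Cfsg.charDegree (χ : G → ℂ) = Cfsg.charDegree ψ := by
        have h3 : Cfsg.charDegree (χ : G → ℂ) / Cfsg.charDegree ψ = 1 :=
          Nat.eq_one_of_dvd_coprimes hc.symm (Nat.div_dvd_of_dvd hdvd) hdiv
        have := Nat.div_mul_cancel hdvd
        rw [h3, one_mul] at this
        exact this.symm
      refine ⟨hqψ, heq ▸ hc, fun g => ?_, χ, χ.2, heq⟩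
      have h5 := CfsgLib.Broline.eq_of_constituent_degree_eq
        (isCharacter_res N (isCharacter_of_isIrr χ.2)) hψ h0
        (by show (χ : G → ℂ) 1 = ψ 1; rw [deg_cast χ.2, deg_cast hψ, heq])
      rw [← h5]
      funext n
      rw [conjFun_apply]
      exact isClassFunction_of_isIrr χ.2 n g
    have hdeg : ∀ χ : G → ℂ, Cfsg.IsIrrCharacter G χ → Cfsg.charDegree χ ≠ 1 →
        Cfsg.charDegree χ ≠ f → ∃ ψ : N → ℂ, Cfsg.IsIrrCharacter N ψ ∧
          Cfsg.charDegree ψ = Cfsg.charDegree χ := fun χ hχ h1 h2 =>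
      ⟨_, isIrr_res_coprime N hχ (hcop χ hχ h1 h2).symm, deg_of_eq rfl⟩
    obtain ⟨ψe, hψe, hψed⟩ := hdeg χe hχe he1 hef
    refine ⟨f, Cfsg.charDegree χe, hf1, he1, hef.symm, Set.ext fun d => ⟨?_, ?_⟩⟩
    · rintro ⟨χ, rfl⟩
      rw [Set.mem_insert_iff, Set.mem_insert_iff, Set.mem_singleton_iff]
      by_cases h1 : Cfsg.charDegree (χ : G → ℂ) = 1
      · exact Or.inl h1
      by_cases h2 : Cfsg.charDegree (χ : G → ℂ) = f
      · exact Or.inr (Or.inl h2)
      obtain ⟨ψ, hψ, hψd⟩ := hdeg χ χ.2 h1 h2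
      rw [← hψd, ← hψed]
      refine Or.inr (Or.inr (same_degree hq K N hKN hne hNab hNq hfree hf1 hqf ?_
        (fun ξ h h' => (hNfacts ξ h h').2.1) (fun ξ h h' => (hNfacts ξ h h').2.2.1)
        (fun ξ h h' => (hNfacts ξ h h').1) hψ hψe (hψd ▸ h1) (hψed ▸ he1)))
      intro ξ ζ hξ hζ hξ1 hζ1 hdvd
      obtain ⟨-, -, -, a, ha, had⟩ := hNfacts ξ hξ hξ1
      obtain ⟨-, -, -, b, hb, hbd⟩ := hNfacts ζ hζ hζ1
      rw [← had, ← hbd] at hdvd ⊢
      exact anti a b ha hb (had ▸ hξ1) hdvd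
    · rintro (rfl | rfl | rfl)
      · exact ⟨⟨_, isIrrCharacter_one⟩, deg_of_cast (d := 1) (by simp)⟩
      · exact ⟨⟨χf, hχf⟩, hχfd⟩
      · exact ⟨⟨χe, hχe⟩, rfl⟩

end CfsgLib.NoDiv
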