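import Mathlib

/-!
# Orbits of an abelian group on an abelian group with an antichain of orbit lengths

* `stab_eq`: all non-trivial elements have the same stabilizer;
* `dvd_card_of_stab`: orbit lengths divisible by the order of an image;
* `count_absurd`: an invariant-orbit automorphism and a smaller semiregular set cannot coexist.
-/

set_option autoImplicit false

namespace CfsgLib.NoDiv

section Stab

variable {Γ Λ : Type*} [CommGroup Γ] [CommGroup Λ] [Finite Λ] (α : Γ →* MulAut Λ)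

/-- The stabilizer of an element. -/
def stabPt (l : Λ) : Subgroup Γ where
  carrier := {a | α a l = l}
  one_mem' := by simp
  mul_mem' := fun {a b} (ha : α a l = l) (hb : α b l = l) => by
    show α (a * b) l = l
    rw [map_mul, MulAut.mul_apply, hb, ha]
  inv_mem' := fun {a} (ha : α a l = l) => by
    show α a⁻¹ l = l
    conv_lhs => rw [← ha]
    rw [← MulAut.mul_apply, ← map_mul, inv_mul_cancel, map_one, MulAut.one_apply]

theorem mem_stabPt {l : Λ} {a : Γ} : a ∈ stabPt α l ↔ α a l = l := Iff.rfl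

theorem comm_apply (a b : Γ) (l : Λ) : α a (α b l) = α b (α a l) := by
  rw [← MulAut.mul_apply, ← map_mul, mul_comm, map_mul, MulAut.mul_apply]

/-- If no stabilizer of a non-trivial element lies properly in another, all are equal. -/
theorem stab_eq (hanti : ∀ l m : Λ, l ≠ 1 → m ≠ 1 → stabPt α l ≤ stabPt α m →
    stabPt α l = stabPt α m) {l₁ l₂ : Λ} (h₁ : l₁ ≠ 1) (h₂ : l₂ ≠ 1) :
    stabPt α l₁ = stabPt α l₂ := by
  suffices h : ∀ l m : Λ, l ≠ 1 → m ≠ 1 → stabPt α l ≤ stabPt α m by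
    exact le_antisymm (h _ _ h₁ h₂) (h _ _ h₂ h₁)
  intro l m hl hm a ha
  let δ : Λ → Λ := fun x => α a x * x⁻¹
  have hδ : ∀ x, δ x = 1 ↔ α a x = x := fun x => mul_inv_eq_one
  have hδmul : ∀ x y, δ (x * y) = δ x * δ y := fun x y => by
    simp only [δ, map_mul, mul_inv_rev]
    ac_rfl
  have heq : ∀ x, x ≠ 1 → δ x ≠ 1 → stabPt α x = stabPt α (δ x) := by
    intro x hx hδx
    refine hanti _ _ hx hδx fun b (hb : α b x = x) => ?_
    show α b (α a x * x⁻¹) = α a x * x⁻¹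
    rw [map_mul, map_inv, comm_apply α b a, hb]
  by_contra hma
  have hδm : δ m ≠ 1 := fun h => hma ((hδ m).1 h)
  have hδδ : δ (δ m) ≠ 1 := fun h => hma (by rw [heq m hm hδm]; exact (hδ _).1 h)
  set z := l * δ m
  have hδl : δ l = 1 := (hδ l).2 ha
  have hδz : δ z = δ (δ m) := by rw [hδmul, hδl, one_mul]
  have hz : z ≠ 1 := fun h => hδδ (by rw [← hδz, h]; simp [δ])
  have hle : stabPt α z ≤ stabPt α l := by
    intro b hb
    have h1 : α b (δ (δ m)) = δ (δ m) := by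
      rw [← hδz]
      show α b (α a z * z⁻¹) = α a z * z⁻¹
      rw [map_mul, map_inv, comm_apply α b a, hb]
    have h2 : α b (δ m) = δ m := by
      have := heq (δ m) hδm hδδ
      exact (this ▸ h1 : b ∈ stabPt α (δ m))
    have h3 : α b (l * δ m) = l * δ m := hb
    rw [map_mul, h2] at h3
    exact mul_right_cancel h3
  have h4 : a ∈ stabPt α z := (hanti z l hz hl hle) ▸ ha
  exact hδδ (hδz ▸ (hδ z).2 h4)

end Stab

/-- If all stabilizers lie in the kernel of `φ`, the order of the image divides `|X|`. -/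
theorem dvd_card_of_stab {S Q X : Type*} [Group S] [Group Q] [Finite X] [MulAction S X]
    (φ : S →* Q) (h : ∀ x : X, MulAction.stabilizer S x ≤ φ.ker) :
    Nat.card φ.range ∣ Nat.card X := by
  classical
  have := Fintype.ofFinite (Quotient (MulAction.orbitRel S X))
  rw [Nat.card_congr (MulAction.selfEquivSigmaOrbits S X), Nat.card_sigma]
  refine Finset.dvd_sum fun ω _ => ?_
  rw [Nat.card_coe_set_eq, ← MulAction.index_stabilizer, ← Subgroup.index_ker]
  exact Subgroup.index_dvd_of_le (h _)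

/-- The arithmetic of the final count. -/
theorem arith_absurd {p h i j k : ℕ} (hp : p.Prime) (hj : 0 < j) (hji : j < i) (hk : 2 * k ≤ i)
    (h1 : h ∣ p ^ i - 1) (h2 : h ∣ p ^ j - 1) (hle : p ^ i - 1 ≤ h * (p ^ k - 1)) : False := by
  have hg : h ∣ p ^ Nat.gcd i j - 1 := by
    rw [← Nat.pow_sub_one_gcd_pow_sub_one p i j]
    exact Nat.dvd_gcd h1 h2
  set g := Nat.gcd i j with hgdef
  have hg0 : 0 < g := Nat.gcd_pos_of_pos_right i hj
  obtain ⟨c, hc⟩ : g ∣ i := Nat.gcd_dvd_left i j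
  have hgj : g ≤ j := Nat.le_of_dvd hj (Nat.gcd_dvd_right i j)
  have h2g : 2 * g ≤ i := by
    rcases c with _ | _ | c
    · omega
    · omega
    · rw [hc]; nlinarith
  have hpg : 1 < p ^ g := Nat.one_lt_pow hg0.ne' hp.one_lt
  have hhle : h ≤ p ^ g - 1 := Nat.le_of_dvd (by omega) hg
  have hle' : p ^ i - 1 ≤ (p ^ g - 1) * (p ^ k - 1) := hle.trans (Nat.mul_le_mul_right _ hhle)
  have hmul : p ^ g * p ^ k ≤ p ^ i := by
    rw [← pow_add]
    exact Nat.pow_le_pow_right hp.pos (by omega)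
  have hk1 : 1 ≤ p ^ k := Nat.one_le_pow _ _ hp.pos
  have hpi : 1 < p ^ i := Nat.one_lt_pow (by omega) hp.one_lt
  obtain ⟨A, hA⟩ : ∃ A, p ^ g = A + 2 := ⟨p ^ g - 2, by omega⟩
  obtain ⟨B, hB⟩ : ∃ B, p ^ k = B + 1 := ⟨p ^ k - 1, by omega⟩
  obtain ⟨C, hC⟩ : ∃ C, p ^ i = C + 1 := ⟨p ^ i - 1, by omega⟩
  rw [hA, hB, hC] at hle' hmul
  simp only [Nat.add_sub_cancel, show A + 2 - 1 = A + 1 from rfl] at hle'
  nlinarith

section Count

variable {Γ Λ : Type*} [CommGroup Γ] [Finite Γ] [CommGroup Λ] [Finite Λ]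

/-- The map `a ↦ σ a / a` modulo `B`. -/
def diffHom (σ : Γ →* Γ) (B : Subgroup Γ) : Γ →* Γ ⧸ B :=
  (QuotientGroup.mk' B).comp (σ * (MonoidHom.id Γ)⁻¹)

theorem diffHom_apply (σ : Γ →* Γ) (B : Subgroup Γ) (a : Γ) :
    diffHom σ B a = ((σ a * a⁻¹ : Γ) : Γ ⧸ B) := rfl

/-- An automorphism fixing every orbit, a common stabilizer `B`, orbit lengths prime to the order of
the automorphism: incompatible with a smaller set of `p`-power order on which `σ a / a` acts freely. -/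
theorem count_absurd (α : Γ →* MulAut Λ) (Λ₀ : Subgroup Λ) (σ : Γ →* Γ) (τ : MulAut Λ) (B : Subgroup Γ)
    {f p i j : ℕ} (hp : p.Prime) (hinv : ∀ a, ∀ l ∈ Λ₀, α a l ∈ Λ₀)
    (hτ : ∀ a l, τ (α a l) = α (σ a) (τ l)) (hσf : ∀ a, σ^[f] a = a)
    (hτf : ∃ m₀, ∀ l, τ^[f] l = α m₀ l)
    (hstab : ∀ a l, l ≠ 1 → (α a l = l ↔ a ∈ B)) (horb : ∀ l, ∃ a, τ l = α a l)
    (hcop : f.Coprime B.index) (hne : diffHom σ B ≠ 1)
    (hi : Nat.card Λ₀ = p ^ i) (hj : 0 < j) (hji : j < i)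
    (hw : Nat.card (diffHom σ B).range ∣ p ^ j - 1) : False := by
  classical
  set Φ := diffHom σ B with hΦdef
  obtain ⟨m₀, hm₀⟩ := hτf
  have hΦ : ∀ c, Φ c = 1 ↔ σ c * c⁻¹ ∈ B := fun c => QuotientGroup.eq_one_iff _
  have hfix : ∀ b ∈ B, ∀ l, α b l = l := fun b hb l => by
    by_cases hl : l = 1
    · simp [hl]
    · exact (hstab b l hl).2 hb
  -- the free action on the non-trivial elements of `Λ₀`
  have hdiv : Nat.card Φ.range ∣ p ^ i - 1 := by
    let φ : (σ * (MonoidHom.id Γ)⁻¹).range →* Γ ⧸ B :=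
      (QuotientGroup.mk' B).comp (σ * (MonoidHom.id Γ)⁻¹).range.subtype
    let X := {l : Λ // l ∈ Λ₀ ∧ l ≠ 1}
    let _ : MulAction (σ * (MonoidHom.id Γ)⁻¹).range X :=
      { smul := fun s x => ⟨α (s : Γ) x.1, hinv _ _ x.2.1, fun h => x.2.2 (by simpa using h)⟩
        one_smul := fun x => Subtype.ext (by
          show α (1 : Γ) x.1 = x.1
          simp)
        mul_smul := fun s t x => Subtype.ext (by
          show α ((s : Γ) * t) x.1 = α (s : Γ) (α (t : Γ) x.1)
          rw [map_mul, MulAut.mul_apply]) }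
    have h1 := dvd_card_of_stab φ (X := X) fun x s hs => by
      have h : α (s : Γ) x.1 = x.1 := congrArg Subtype.val hs
      exact (QuotientGroup.eq_one_iff _).2 ((hstab _ _ x.2.2).1 h)
    have hr : φ.range = Φ.range := by
      rw [MonoidHom.range_comp, Subgroup.range_subtype, ← MonoidHom.range_comp]
      rfl
    have hX : Nat.card X = p ^ i - 1 := by
      rw [← hi]
      let e : X ≃ {l : Λ₀ // l ≠ 1} :=
        { toFun := fun x => ⟨⟨x.1, x.2.1⟩, fun h => x.2.2 (congrArg Subtype.val h)⟩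
          invFun := fun y => ⟨y.1.1, y.1.2, fun h => y.2 (Subtype.ext h)⟩
          left_inv := fun x => rfl
          right_inv := fun y => rfl }
      have := Fintype.ofFinite Λ₀
      rw [Nat.card_congr e, Nat.card_eq_fintype_card, Nat.card_eq_fintype_card]
      simp [Fintype.card_subtype_compl]
    rwa [hr, hX] at h1
  -- the product along `τ`
  let P : ℕ → Γ → Γ := fun n => Nat.rec (fun _ => 1) (fun _ r a => σ (r a) * a) n
  have hP : ∀ n a l, τ l = α a l → τ^[n] l = α (P n a) l := by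
    intro n a l h
    induction n with
    | zero => simp [P]
    | succ n ih =>
      rw [Function.iterate_succ_apply', ih, hτ, h, ← MulAut.mul_apply, ← map_mul]
  have hPB : ∀ a l, l ≠ 1 → τ l = α a l → (P f a * m₀⁻¹) ∈ B := by
    intro a l hl h
    refine (hstab _ l hl).1 ?_
    have h2 := (hP f a l h).symm.trans (hm₀ l)
    rw [mul_comm, map_mul, MulAut.mul_apply, h2, ← MulAut.mul_apply, ← map_mul, inv_mul_cancel, map_one,
      MulAut.one_apply]
  set R : Subgroup Γ := (σ * (MonoidHom.id Γ)⁻¹).range ⊔ B with hR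
  have hσR : ∀ x : Γ, (σ x : Γ ⧸ R) = (x : Γ ⧸ R) := fun x => by
    rw [QuotientGroup.eq]
    have h : σ x * x⁻¹ ∈ R := Subgroup.mem_sup_left ⟨x, rfl⟩
    have := inv_mem h
    rwa [mul_inv_rev, inv_inv, mul_comm] at this
  have hPR : ∀ (n : ℕ) (a : Γ), (QuotientGroup.mk (P n a) : Γ ⧸ R) = (a : Γ ⧸ R) ^ n := by
    intro n a
    induction n with
    | zero => simp [P]
    | succ n ih =>
      show (QuotientGroup.mk (σ (P n a) * a) : Γ ⧸ R) = _
      rw [QuotientGroup.mk_mul, hσR, ih, pow_succ]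
  obtain ⟨l₀, hl₀, hl₀1⟩ : ∃ l ∈ Λ₀, l ≠ 1 := by
    rcases Subgroup.bot_or_exists_ne_one Λ₀ with h | h
    · rw [h, Subgroup.card_bot] at hi
      have := Nat.one_lt_pow (show i ≠ 0 by omega) hp.one_lt
      omega
    · exact h
  obtain ⟨a₀, ha₀⟩ := horb l₀
  -- every element is a shift of one fixed by `τ` up to `a₀`
  let F : Subgroup Λ :=
    { carrier := {l | l ∈ Λ₀ ∧ τ l = α a₀ l}
      one_mem' := ⟨one_mem _, by simp⟩
      mul_mem' := fun {x y} hx hy => ⟨mul_mem hx.1 hy.1, by rw [map_mul, map_mul, hx.2, hy.2]⟩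
      inv_mem' := fun {x} hx => ⟨inv_mem hx.1, by rw [map_inv, map_inv, hx.2]⟩ }
  have hmove : ∀ c l, τ l = α a₀ l → τ (α c l) = α (σ c * c⁻¹ * a₀) (α c l) := by
    intro c l h
    rw [hτ, h, ← MulAut.mul_apply, ← map_mul, ← MulAut.mul_apply, ← map_mul]
    congr 2
    simp [mul_assoc, mul_comm, mul_left_comm]
  have hker : ∀ c, Φ c = 1 → ∀ l ∈ F, α c l ∈ F := by
    intro c hc l hl
    refine ⟨hinv _ _ hl.1, ?_⟩
    rw [hmove c l hl.2, mul_comm, map_mul, MulAut.mul_apply, hfix _ ((hΦ c).1 hc)]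
  have hcover : ∀ l ∈ Λ₀, l ≠ 1 → ∃ c, ∃ x ∈ F, x ≠ 1 ∧ α c x = l := by
    intro l hl hl1
    obtain ⟨a, ha⟩ := horb l
    have h1 : ((a : Γ) : Γ ⧸ R) ^ f = (a₀ : Γ ⧸ R) ^ f := by
      rw [← hPR, ← hPR, QuotientGroup.eq]
      refine Subgroup.mem_sup_right ?_
      have := mul_mem (inv_mem (hPB a l hl1 ha)) (hPB a₀ l₀ hl₀1 ha₀)
      rw [mul_inv_rev, inv_inv] at this
      convert this using 1
      rw [mul_comm (P f a₀), mul_mul_mul_comm, mul_inv_cancel, one_mul]
    have h2 : ((a * a₀⁻¹ : Γ) : Γ ⧸ R) = 1 := by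
      refine orderOf_eq_one_iff.1 (Nat.eq_one_of_dvd_coprimes hcop ?_ ?_)
      · refine orderOf_dvd_of_pow_eq_one ?_
        rw [QuotientGroup.mk_mul, mul_pow, h1, ← mul_pow, ← QuotientGroup.mk_mul, mul_inv_cancel,
          QuotientGroup.mk_one, one_pow]
      · exact (orderOf_dvd_natCard _).trans ((Subgroup.index_eq_card R) ▸
          Subgroup.index_dvd_of_le le_sup_right)
    obtain ⟨_, ⟨c, rfl⟩, b, hb, hcb⟩ := Subgroup.mem_sup.1 ((QuotientGroup.eq_one_iff _).1 h2)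
    have hca : a = σ c * c⁻¹ * b * a₀ := by
      have : σ c * c⁻¹ * b = a * a₀⁻¹ := hcb
      rw [this, inv_mul_cancel_right]
    refine ⟨c, α c⁻¹ l, ⟨hinv _ _ hl, ?_⟩, fun h => hl1 (by simpa using h),
      by rw [← MulAut.mul_apply, ← map_mul, mul_inv_cancel, map_one, MulAut.one_apply]⟩
    rw [hτ, ha, hca, map_inv σ, ← MulAut.mul_apply, ← map_mul, ← MulAut.mul_apply, ← map_mul,
      show (σ c)⁻¹ * (σ c * c⁻¹ * b * a₀) = a₀ * c⁻¹ * b by
        simp only [mul_assoc, inv_mul_cancel_left]; ac_rfl, map_mul, MulAut.mul_apply, hfix b hb]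
  -- counting
  have hFle : F ≤ Λ₀ := fun x hx => hx.1
  obtain ⟨k, -, hk⟩ : ∃ k ≤ i, Nat.card F = p ^ k :=
    (Nat.dvd_prime_pow hp).1 (hi ▸ Subgroup.card_dvd_of_le hFle)
  have hcardle : p ^ i - 1 ≤ Nat.card Φ.range * (p ^ k - 1) := by
    let g : (Γ ⧸ Φ.ker) × {x : F // x ≠ 1} → {l : Λ₀ // l ≠ 1} := fun z =>
      ⟨⟨α z.1.out z.2.1.1, hinv _ _ z.2.1.2.1⟩, fun h => z.2.2 (Subtype.ext (by
        simpa using congrArg Subtype.val h))⟩
    have hg : Function.Surjective g := by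
      intro l
      obtain ⟨c, x, hx, hx1, hcx⟩ := hcover l.1.1 l.1.2 fun h => l.2 (Subtype.ext h)
      obtain ⟨w, hw⟩ := QuotientGroup.mk_out_eq_mul Φ.ker c
      have hwk : Φ (w : Γ)⁻¹ = 1 := by rw [map_inv, w.2, inv_one]
      refine ⟨((c : Γ ⧸ Φ.ker), ⟨⟨α (w : Γ)⁻¹ x, hker _ hwk x hx⟩, fun h => hx1 ?_⟩), ?_⟩
      · simpa using congrArg Subtype.val h
      · refine Subtype.ext (Subtype.ext ?_)
        show α (c : Γ ⧸ Φ.ker).out (α (w : Γ)⁻¹ x) = l.1.1
        rw [hw, ← MulAut.mul_apply, ← map_mul, mul_inv_cancel_right, hcx]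
    have h := Nat.card_le_card_of_surjective g hg
    have := Fintype.ofFinite Λ₀
    have := Fintype.ofFinite F
    rw [Nat.card_prod, ← Subgroup.index_eq_card, Subgroup.index_ker] at h
    simp only [Nat.card_eq_fintype_card, Fintype.card_subtype_compl, Fintype.card_subtype_eq] at h ⊢
    rw [← Nat.card_eq_fintype_card, ← Nat.card_eq_fintype_card, hi, hk] at h
    exact h
  obtain ⟨c, hc⟩ : ∃ c, Φ c ≠ 1 := by
    by_contra h
    push Not at h
    exact hne (MonoidHom.ext h)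
  have h2k : 2 * k ≤ i := by
    let g : F × F → Λ₀ := fun z => ⟨z.1.1 * α c z.2.1, mul_mem z.1.2.1 (hinv _ _ z.2.2.1)⟩
    have hg : Function.Injective g := by
      rintro ⟨x, y⟩ ⟨x', y'⟩ h
      have h' : x.1 * α c y.1 = x'.1 * α c y'.1 := congrArg Subtype.val h
      have h1 : ((x⁻¹ * x' : F) : Λ) = α c (y * y'⁻¹ : F) := by
        simp only [Subgroup.coe_mul, Subgroup.coe_inv, map_mul, map_inv]
        rw [eq_mul_inv_iff_mul_eq, mul_assoc, inv_mul_eq_iff_eq_mul]
        exact h'.symm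
      have hd : y * y'⁻¹ = 1 := by
        refine Subtype.ext ?_
        by_contra hd
        set d : Λ := ((y * y'⁻¹ : F) : Λ)
        have hτd := (y * y'⁻¹ : F).2.2
        have hτcd := (x⁻¹ * x' : F).2.2
        rw [h1, hmove c d hτd, map_mul, MulAut.mul_apply, comm_apply α a₀] at hτcd
        have h3 : α (σ c * c⁻¹) (α c (α a₀ d)) = α c (α a₀ d) := by
          rw [comm_apply α c a₀, comm_apply α (σ c * c⁻¹) a₀] at *
          exact hτcd
        exact hc ((hΦ c).2 ((hstab _ _ fun e => hd (by simpa using e)).1 h3))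
      rw [mul_inv_eq_one] at hd
      subst hd
      exact Prod.ext (Subtype.ext (mul_right_cancel h')) rfl
    have h := Nat.card_le_card_of_injective g hg
    rw [Nat.card_prod, hk, hi, ← pow_add, Nat.pow_le_pow_iff_right hp.one_lt] at h
    omega
  exact arith_absurd hp hj hji h2k hdiv hw hcardle

end Count

end CfsgLib.NoDiv
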